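import Groth.Prelude.Def_AlgSpInf
import Groth.Agent.H13AlgSp.Cover

/-!
Infinitesimal lifting against square zero thickenings which are not affine: uniqueness and gluing.
-/

universe u

open CategoryTheory CategoryTheory.Limits AlgebraicGeometry Opposite
open AlgSp

namespace Groth.Agent.H13Inf

variable {S : Scheme.{u}} {F G : Sp S}

/-- Morphisms from representable sheaves glue along coverings. -/
theorem exists_glue {T : Over S} {κ : Type u} {C : κ → Over S} (c : ∀ i, C i ⟶ T)
    (hc : Sieve.ofArrows C c ∈ J S T) (l : ∀ i, (yon S).obj (C i) ⟶ F)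
    (hl : ∀ i j (Z : Over S) (gi : Z ⟶ C i) (gj : Z ⟶ C j), gi ≫ c i = gj ≫ c j →
      (yon S).map gi ≫ l i = (yon S).map gj ≫ l j) :
    ∃ m : (yon S).obj T ⟶ F, ∀ i, (yon S).map (c i) ≫ m = l i := by
  have h : Presieve.IsSheafFor F.obj (Presieve.ofArrows C c) := by
    rw [Presieve.isSheafFor_iff_generate]
    exact ((isSheaf_iff_isSheaf_of_type _ _).1 F.property) _ hc
  obtain ⟨t, ht, -⟩ := Presieve.isSheafFor_arrows_iff _ _ |>.1 h
    (fun i => (J S).uliftYonedaEquiv (l i)) (fun i j Z gi gj e => by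
      rw [GrothendieckTopology.uliftYonedaEquiv_naturality,
        GrothendieckTopology.uliftYonedaEquiv_naturality]
      exact congrArg _ (hl i j Z gi gj e))
  refine ⟨(J S).uliftYonedaEquiv.symm t, fun i => (J S).uliftYonedaEquiv.injective ?_⟩
  rw [← GrothendieckTopology.uliftYonedaEquiv_naturality, Equiv.apply_symm_apply]
  exact ht i

/-- The spectrum of a quotient of `B` as a scheme over `S`. -/
noncomputable abbrev quotPt {B : Type u} [CommRing B] (str : Spec (.of B) ⟶ S) (K : Ideal B) : Over S :=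
  Over.mk (Spec.map (CommRingCat.ofHom (Ideal.Quotient.mk K)) ≫ str)

/-- The closed immersion of the spectrum of a quotient. -/
noncomputable abbrev quotMap {B : Type u} [CommRing B] (str : Spec (.of B) ⟶ S) (K : Ideal B) :
    quotPt str K ⟶ Over.mk str :=
  Over.homMk (Spec.map (CommRingCat.ofHom (Ideal.Quotient.mk K))) rfl

variable {Tt T' : Sp S}

/-- Over every affine open of `W`, the base change of `j` is a square zero thickening of affine
schemes. -/
def Good (j : Tt ⟶ T') {W : Over S} (c : (yon S).obj W ⟶ T') : Prop :=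
  ∀ (B : CommRingCat.{u}) (str : Spec (.of B) ⟶ S) (e : Over.mk str ⟶ W), IsOpenImmersion e.left →
    ∃ (K : Ideal B) (t : (yon S).obj (quotPt str K) ⟶ Tt),
      K ^ 2 = ⊥ ∧ IsPullback t ((yon S).map (quotMap str K)) j ((yon S).map e ≫ c)

theorem Good.precomp {j : Tt ⟶ T'} {W W' : Over S} {c : (yon S).obj W ⟶ T'} (h : Good j c)
    (g : W' ⟶ W) [IsOpenImmersion g.left] : Good j ((yon S).map g ≫ c) := by
  intro B str e he
  obtain ⟨K, t, hK, sq⟩ := h B str (e ≫ g) (by rw [Over.comp_left]; infer_instance)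
  rw [Functor.map_comp, Category.assoc] at sq
  exact ⟨K, t, hK, sq⟩

/-- `m` solves the lifting problem given by `top` and `bot` over `c`. -/
structure IsLift (f : F ⟶ G) (j : Tt ⟶ T') (top : Tt ⟶ F) (bot : T' ⟶ G) {W : Over S}
    (c : (yon S).obj W ⟶ T') (m : (yon S).obj W ⟶ F) : Prop where
  w : m ≫ f = c ≫ bot
  restrict : ∀ (Z : Over S) (k : Z ⟶ W) (k0 : (yon S).obj Z ⟶ Tt),
    (yon S).map k ≫ c = k0 ≫ j → (yon S).map k ≫ m = k0 ≫ top

variable {f : F ⟶ G} {j : Tt ⟶ T'} {top : Tt ⟶ F} {bot : T' ⟶ G}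

theorem IsLift.precomp {W W' : Over S} {c : (yon S).obj W ⟶ T'} {m : (yon S).obj W ⟶ F}
    (h : IsLift f j top bot c m) (g : W' ⟶ W) :
    IsLift f j top bot ((yon S).map g ≫ c) ((yon S).map g ≫ m) where
  w := by rw [Category.assoc, h.w, Category.assoc]
  restrict Z k k0 e := by
    rw [← Category.assoc, ← Functor.map_comp]
    exact h.restrict Z (k ≫ g) k0 (by rw [Functor.map_comp, Category.assoc, e])

/-- The affine pieces of a scheme over `S`. -/
theorem exists_affine_pieces (W : Over S) :
    ∃ (κ : Type u) (B : κ → CommRingCat.{u}) (str : ∀ i, Spec (B i) ⟶ S) (e : ∀ i, Over.mk (str i) ⟶ W),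
      (∀ i, IsOpenImmersion (e i).left) ∧ Sieve.ofArrows (fun i => Over.mk (str i)) e ∈ J S W ∧
        ∀ x : W.left, ∃ i, x ∈ Set.range (e i).left := by
  let 𝒰 := W.left.affineOpens
  refine ⟨𝒰, fun U => Γ(W.left, U.1), fun U => U.2.fromSpec ≫ W.hom,
    fun U => Over.homMk U.2.fromSpec rfl, fun U => ?_, ?_⟩
  · exact inferInstanceAs (IsOpenImmersion U.2.fromSpec)
  have hcov : ∀ x : W.left, ∃ U : 𝒰, x ∈ Set.range (show _ ⟶ W.left from U.2.fromSpec) := fun x => by
    obtain ⟨U, hU, hxU, -⟩ := exists_isAffineOpen_mem_and_subset (x := x) (U := ⊤) trivial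
    refine ⟨⟨U, hU⟩, ?_⟩
    rw [hU.range_fromSpec]
    exact hxU
  exact ⟨H13AlgSp.ofArrows_mem_J _ (fun U => inferInstanceAs (Flat U.2.fromSpec))
    (fun U => inferInstanceAs (LocallyOfFinitePresentation U.2.fromSpec)) hcov, hcov⟩

/-- The lifting square cut out on an affine piece. -/
noncomputable abbrev pieceSq {B : Type u} [CommRing B] {str : Spec (.of B) ⟶ S} {K : Ideal B}
    {c : (yon S).obj (Over.mk str) ⟶ T'}
    {t : (yon S).obj (quotPt str K) ⟶ Tt} (hK : K ^ 2 = ⊥) (w : top ≫ f = j ≫ bot)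
    (sq : IsPullback t ((yon S).map (quotMap str K)) j c) : InfSq f where
  A := B
  I := K
  sq_zero := hK
  str := str
  top := t ≫ top
  bot := c ≫ bot
  comm := by
    rw [Category.assoc, w, ← Category.assoc, sq.w, Category.assoc]

theorem isLift_of_piece {B : Type u} [CommRing B] {str : Spec (.of B) ⟶ S} {K : Ideal B}
    {c : (yon S).obj (Over.mk str) ⟶ T'}
    {t : (yon S).obj (quotPt str K) ⟶ Tt} (sq : IsPullback t ((yon S).map (quotMap str K)) j c)
    {l : (yon S).obj (Over.mk str) ⟶ F} (h1 : (yon S).map (quotMap str K) ≫ l = t ≫ top)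
    (h2 : l ≫ f = c ≫ bot) : IsLift f j top bot c l where
  w := h2
  restrict Z k k0 e := by
    rw [← sq.lift_snd k0 ((yon S).map k) e.symm, Category.assoc, h1, ← Category.assoc, sq.lift_fst]

theorem IsLift.unique_of_piece {B : Type u} [CommRing B] {str : Spec (.of B) ⟶ S} {K : Ideal B}
    {c : (yon S).obj (Over.mk str) ⟶ T'}
    {t : (yon S).obj (quotPt str K) ⟶ Tt} (hK : K ^ 2 = ⊥) (w : top ≫ f = j ≫ bot)
    (sq : IsPullback t ((yon S).map (quotMap str K)) j c) (hf : IsFormallyUnramifiedMor f)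
    {m m' : (yon S).obj (Over.mk str) ⟶ F} (hm : IsLift f j top bot c m)
    (hm' : IsLift f j top bot c m') : m = m' :=
  hf (pieceSq hK w sq) m m' (hm.restrict _ (quotMap str K) t sq.w.symm) hm.w
    (hm'.restrict _ (quotMap str K) t sq.w.symm) hm'.w

theorem IsLift.unique (hf : IsFormallyUnramifiedMor f) (w : top ≫ f = j ≫ bot) {W : Over S}
    {c : (yon S).obj W ⟶ T'} (hc : Good j c) {m m' : (yon S).obj W ⟶ F}
    (hm : IsLift f j top bot c m) (hm' : IsLift f j top bot c m') : m = m' := by
  obtain ⟨κ, B, str, e, he, hcov, hrange⟩ := exists_affine_pieces W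
  refine H13AlgSp.hom_ext_of_cover e hcov fun i => ?_
  obtain ⟨K, t, hK, sq⟩ := hc (B i) (str i) (e i) (he i)
  exact IsLift.unique_of_piece hK w sq hf (hm.precomp (e i)) (hm'.precomp (e i))

theorem formallyUnramified_of_formallyEtale (hf : IsFormallyEtaleMor f) :
    IsFormallyUnramifiedMor f := fun sq _ _ h1 h2 h1' h2' => (hf sq).unique ⟨h1, h2⟩ ⟨h1', h2'⟩

theorem exists_isLift (hf : IsFormallyEtaleMor f) (w : top ≫ f = j ≫ bot) {W : Over S}
    {c : (yon S).obj W ⟶ T'} (hc : Good j c) : ∃ m, IsLift f j top bot c m := by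
  obtain ⟨κ, B, str, e, he, hcov, hrange⟩ := exists_affine_pieces W
  have hex : ∀ i, ∃ l, IsLift f j top bot ((yon S).map (e i) ≫ c) l := by
    intro i
    obtain ⟨K, t, hK, sq⟩ := hc (B i) (str i) (e i) (he i)
    obtain ⟨l, ⟨h1, h2⟩, -⟩ := hf (pieceSq hK w sq)
    exact ⟨l, isLift_of_piece sq h1 h2⟩
  choose l hl using hex
  have hoi : ∀ i, IsOpenImmersion (e i).left := he
  obtain ⟨m, hm⟩ := exists_glue e hcov l fun i k Z gi gk h => by
    have sqO := IsPullback.of_hasPullback (e i) (e k)
    have hp : IsOpenImmersion (pullback.fst (e i) (e k)).left :=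
      MorphismProperty.of_isPullback (sqO.map (Over.forget S)).flip (he k)
    rw [← sqO.lift_fst gi gk h, Functor.map_comp, Category.assoc]
    conv_rhs => rw [← sqO.lift_snd gi gk h, Functor.map_comp, Category.assoc]
    congr 1
    refine IsLift.unique (formallyUnramified_of_formallyEtale hf) w
      ((hc.precomp (e i)).precomp (pullback.fst (e i) (e k))) ((hl i).precomp _) ?_
    have := (hl k).precomp (pullback.snd (e i) (e k))
    rwa [← Category.assoc, ← Functor.map_comp, ← sqO.w, Functor.map_comp, Category.assoc] at this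
  refine ⟨m, H13AlgSp.hom_ext_of_cover e hcov fun i => ?_, fun Z k k0 hk => ?_⟩
  · rw [← Category.assoc, hm i, (hl i).w, Category.assoc]
  · have hexi : ∀ i, IsPullback (pullback.fst k (e i)) (pullback.snd k (e i)) k (e i) :=
      fun i => IsPullback.of_hasPullback _ _
    refine H13AlgSp.hom_ext_of_cover (fun i => pullback.fst k (e i)) ?_ fun i => ?_
    · refine H13AlgSp.ofArrows_mem_J _ (fun i => ?_) (fun i => ?_) (fun z => ?_)
      · have : IsOpenImmersion (pullback.fst k (e i)).left :=
          MorphismProperty.of_isPullback ((hexi i).map (Over.forget S)).flip (he i)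
        infer_instance
      · have : IsOpenImmersion (pullback.fst k (e i)).left :=
          MorphismProperty.of_isPullback ((hexi i).map (Over.forget S)).flip (he i)
        infer_instance
      · obtain ⟨i, hi⟩ := hrange (k.left z)
        obtain ⟨y, hy⟩ := hi
        obtain ⟨p, hp, -⟩ := Scheme.exists_preimage_of_isPullback
          ((hexi i).map (Over.forget S)) z y hy.symm
        exact ⟨i, p, hp⟩
    · rw [← Category.assoc, ← Functor.map_comp, (hexi i).w, Functor.map_comp, Category.assoc, hm i]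
      rw [(hl i).restrict _ (pullback.snd k (e i)) ((yon S).map (pullback.fst k (e i)) ≫ k0)]
      · rw [Category.assoc]
      · rw [← Category.assoc, ← Functor.map_comp, ← (hexi i).w, Functor.map_comp, Category.assoc,
          hk, Category.assoc]

end Groth.Agent.H13Inf
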