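import Groth.Agent.H13Inf.Converse
import Groth.Agent.H13AlgSp.LocP
import Groth.Agent.H12AlgSp.LocP
import Groth.Agent.S10618
import Groth.Agent.S10619
import Groth.Agent.S1488
import Groth.Agent.S1489
import Groth.Agent.S9771

/-!
Formally unramified, formally etale and formally smooth morphisms of algebraic spaces on charts.
-/

universe u

open CategoryTheory CategoryTheory.Limits AlgebraicGeometry Opposite
open AlgSp Groth.Agent.H12AlgSp

namespace Groth.Agent.H13Inf

variable {S : Scheme.{u}} {F G : Sp S}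

theorem isFormallySmoothMor_of_repWith {f : F ⟶ G}
    (hP : RepWith @MoreMor.IsFormallySmoothHom f) : IsFormallySmoothMor f := by
  intro sq
  obtain ⟨W, g', g, pb⟩ := hP.1 sq.bot
  have hg : MoreMor.IsFormallySmoothHom g'.left := hP.2 _ _ _ pb
  let t := pb.lift sq.top ((yon S).map sq.j) sq.comm
  obtain ⟨τ, hτ⟩ := (yon S).map_surjective t
  obtain ⟨σ, hσ1, hσ2⟩ := hg sq.A sq.I sq.sq_zero τ.left (𝟙 _) (by
    have : τ ≫ g' = sq.j := (yon S).map_injective (by rw [Functor.map_comp, hτ, pb.lift_snd])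
    exact (Category.comp_id _).trans (congrArg CommaMorphism.left this).symm)
  have hσw : σ ≫ W.hom = sq.str := by
    rw [← Over.w g', ← Category.assoc, hσ2, Category.id_comp]; rfl
  let σ' : sq.ptT' ⟶ W := Over.homMk σ hσw
  refine ⟨(yon S).map σ' ≫ g, ?_, ?_⟩
  · rw [← Category.assoc, ← Functor.map_comp,
      show sq.j ≫ σ' = τ from Over.OverMorphism.ext hσ1, hτ, pb.lift_fst]
  · rw [Category.assoc, pb.w, ← Category.assoc, ← Functor.map_comp,
      show σ' ≫ g' = 𝟙 sq.ptT' from Over.OverMorphism.ext hσ2]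
    exact (congrArg (· ≫ sq.bot) ((yon S).map_id _)).trans (Category.id_comp _)

theorem isFormallyUnramifiedMor_yon_map {U V : Over S} {h : U ⟶ V} :
    IsFormallyUnramifiedMor ((yon S).map h) ↔ FormallyUnramified h.left := by
  refine ⟨fun hf => FormallyUnramified.of_hom_ext h.left fun R S' φ hφ hφ2 g₁ g₂ e1 e2 => ?_,
    fun hf => isFormallyUnramifiedMor_of_repWith (P := @FormallyUnramified) (fun _ hg => hg)
      ((repWith_yon_map_iff _ h).2 hf)⟩
  let I := RingHom.ker φ.hom
  let ε : CommRingCat.of (R ⧸ I) ≅ S' := (RingHom.quotientKerEquivOfSurjective hφ).toCommRingCatIso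
  have hφε : CommRingCat.ofHom (Ideal.Quotient.mk I) ≫ ε.hom = φ := by ext x; rfl
  have e1' : Spec.map (CommRingCat.ofHom (Ideal.Quotient.mk I)) ≫ g₁ =
      Spec.map (CommRingCat.ofHom (Ideal.Quotient.mk I)) ≫ g₂ := by
    rw [← cancel_epi (Spec.map ε.hom), ← Category.assoc, ← Category.assoc, ← Spec.map_comp, hφε, e1]
  have hstr : g₂ ≫ U.hom = g₁ ≫ U.hom := by
    rw [← Over.w h, ← Category.assoc, ← e2, Category.assoc]
  let l₁ : Over.mk (g₁ ≫ U.hom) ⟶ U := Over.homMk g₁ rfl
  let l₂ : Over.mk (g₁ ≫ U.hom) ⟶ U := Over.homMk g₂ hstr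
  let sq : InfSq ((yon S).map h) :=
    { A := R, I := I, sq_zero := hφ2, str := g₁ ≫ U.hom
      top := (yon S).map (quotMap (g₁ ≫ U.hom) I ≫ l₁), bot := (yon S).map (l₁ ≫ h)
      comm := by simp only [← Functor.map_comp, Category.assoc] }
  have h12 : (yon S).map l₂ = (yon S).map l₁ := hf sq _ _
    ((Functor.map_comp _ _ _).symm.trans (congrArg (yon S).map (Over.OverMorphism.ext e1'.symm)))
    ((Functor.map_comp _ _ _).symm.trans (congrArg (yon S).map (Over.OverMorphism.ext e2.symm)))
    (Functor.map_comp _ _ _).symm (Functor.map_comp _ _ _).symm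
  exact (congrArg CommaMorphism.left ((yon S).map_injective h12)).symm

theorem isFormallyEtaleMor_yon_map {U V : Over S} {h : U ⟶ V} :
    IsFormallyEtaleMor ((yon S).map h) ↔ MoreMor.IsFormallyEtaleHom h.left := by
  constructor
  · intro hf A _ I hI a b hab
    have hstr : a ≫ U.hom = Spec.map (CommRingCat.ofHom (Ideal.Quotient.mk I)) ≫ b ≫ V.hom := by
      rw [← Over.w h, ← Category.assoc, ← hab, Category.assoc]
    let top : quotPt (b ≫ V.hom) I ⟶ U := Over.homMk a hstr
    let bot : Over.mk (b ≫ V.hom) ⟶ V := Over.homMk b rfl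
    let sq : InfSq ((yon S).map h) :=
      { A := A, I := I, sq_zero := hI, str := b ≫ V.hom, top := (yon S).map top, bot := (yon S).map bot
        comm := by
          rw [← Functor.map_comp, ← Functor.map_comp]
          exact congrArg _ (Over.OverMorphism.ext hab.symm) }
    obtain ⟨l, ⟨h1, h2⟩, hu⟩ := hf sq
    obtain ⟨l, rfl⟩ := (yon S).map_surjective l
    refine ⟨l.left, ⟨?_, ?_⟩, fun m ⟨m1, m2⟩ => ?_⟩
    · exact congrArg CommaMorphism.left
        (show sq.j ≫ l = top from (yon S).map_injective ((Functor.map_comp _ _ _).trans h1))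
    · exact congrArg CommaMorphism.left
        (show l ≫ h = bot from (yon S).map_injective ((Functor.map_comp _ _ _).trans h2))
    · let m' : Over.mk (b ≫ V.hom) ⟶ U := Over.homMk m (by
        show m ≫ U.hom = b ≫ V.hom
        rw [← Over.w h, ← Category.assoc, m2])
      have := hu ((yon S).map m')
        ⟨(Functor.map_comp _ _ _).symm.trans (congrArg (yon S).map (Over.OverMorphism.ext m1)),
          (Functor.map_comp _ _ _).symm.trans (congrArg (yon S).map (Over.OverMorphism.ext m2))⟩
      exact congrArg CommaMorphism.left ((yon S).map_injective this)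
  · intro hf sq
    obtain ⟨τ, hτ⟩ := (yon S).map_surjective sq.top
    obtain ⟨β, hβ⟩ := (yon S).map_surjective sq.bot
    have hc : τ ≫ h = sq.j ≫ β := (yon S).map_injective (by
      rw [Functor.map_comp, Functor.map_comp, hτ, hβ, sq.comm])
    obtain ⟨l, ⟨hl1, hl2⟩, hlu⟩ := hf sq.A sq.I sq.sq_zero τ.left β.left
      (congrArg CommaMorphism.left hc).symm
    have hw : l ≫ U.hom = sq.str := by
      rw [← Over.w h, ← Category.assoc, hl2]; exact Over.w β
    refine ⟨(yon S).map (Over.homMk l hw : sq.ptT' ⟶ U), ⟨?_, ?_⟩, ?_⟩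
    · rw [← hτ, ← Functor.map_comp]; exact congrArg _ (Over.OverMorphism.ext hl1)
    · rw [← hβ, ← Functor.map_comp]; exact congrArg _ (Over.OverMorphism.ext hl2)
    · rintro m ⟨m1, m2⟩
      obtain ⟨m, rfl⟩ := (yon S).map_surjective m
      refine congrArg _ (Over.OverMorphism.ext (hlu m.left ⟨?_, ?_⟩))
      · refine congrArg CommaMorphism.left (show sq.j ≫ m = τ from (yon S).map_injective ?_)
        rw [Functor.map_comp, hτ]; exact m1
      · refine congrArg CommaMorphism.left (show m ≫ h = β from (yon S).map_injective ?_)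
        rw [Functor.map_comp, hβ]; exact m2

/-- Formal unramifiedness of a morphism with a chart diagram in which the source chart is surjective. -/
theorem isFormallyUnramifiedMor_of_chart {f : F ⟶ G} {U V : Over S} {a : (yon S).obj U ⟶ F}
    {b : (yon S).obj V ⟶ G} {h : U ⟶ V} (ha : RepWith @Etale a) (ha' : RepWith @Surjective a)
    (hb : RepWith @Etale b) (e : a ≫ f = (yon S).map h ≫ b) (hh : FormallyUnramified h.left) :
    IsFormallyUnramifiedMor f :=
  isFormallyUnramifiedMor_of_comp ha ha' (e ▸ (S10619.result _ _).2.2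
    (isFormallyUnramifiedMor_yon_map.2 hh)
    (formallyUnramified_of_formallyEtale (isFormallyEtaleMor_of_etale hb)))

theorem isFormallyEtaleMor_of_chart {f : F ⟶ G} {U V : Over S} {a : (yon S).obj U ⟶ F}
    {b : (yon S).obj V ⟶ G} {h : U ⟶ V} (ha : RepWith @Etale a) (ha' : RepWith @Surjective a)
    (hb : RepWith @Etale b) (e : a ≫ f = (yon S).map h ≫ b)
    (hh : MoreMor.IsFormallyEtaleHom h.left) : IsFormallyEtaleMor f :=
  isFormallyEtaleMor_of_comp ha ha' (e ▸ (S10619.result _ _).2.1
    (isFormallyEtaleMor_yon_map.2 hh) (isFormallyEtaleMor_of_etale hb))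

theorem locP_of_isFormallyUnramifiedMor {f : F ⟶ G} (hf : IsFormallyUnramifiedMor f) :
    LocP @FormallyUnramified f := fun U V a b h ha hb e =>
  isFormallyUnramifiedMor_yon_map.1 <| (S10618.result _ b
    (formallyUnramified_of_formallyEtale (isFormallyEtaleMor_of_etale hb))).1
    (e ▸ (S10619.result _ _).2.2 (formallyUnramified_of_formallyEtale (isFormallyEtaleMor_of_etale ha)) hf)

theorem locP_of_isFormallyEtaleMor {f : F ⟶ G} (hf : IsFormallyEtaleMor f) :
    LocP @MoreMor.IsFormallyEtaleHom f := fun U V a b h ha hb e =>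
  isFormallyEtaleMor_yon_map.1 <| (S10618.result _ b
    (formallyUnramified_of_formallyEtale (isFormallyEtaleMor_of_etale hb))).2.1
    (e ▸ (S10619.result _ _).2.1 (isFormallyEtaleMor_of_etale ha) hf)

/-- An etale morphism of algebraic spaces is formally etale. -/
theorem isFormallyEtaleMor_of_isEtaleMor (hF : IsAlgSpace F) (hG : IsAlgSpace G) {f : F ⟶ G}
    (hf : IsEtaleMor f) : IsFormallyEtaleMor f := by
  obtain ⟨U, V, a, b, h, ha, ha', hb, -, e⟩ := exists_chart hF hG f
  have : Etale h.left := H13AlgSp.locP_etale_of_isEtaleMor hf a b h ha hb e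
  exact isFormallyEtaleMor_of_chart ha ha' hb e (isFormallyEtaleHom_of_etale _)

end Groth.Agent.H13Inf
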