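import Groth.Agent.H13Inf.Space
import Mathlib.CategoryTheory.EffectiveEpi.Basic

/-!
Lifting along first order thickenings of algebraic spaces.
-/

universe u

open CategoryTheory CategoryTheory.Limits AlgebraicGeometry Opposite
open AlgSp Groth.Agent.H12AlgSp

namespace Groth.Agent.H13Inf

variable {S : Scheme.{u}} {F G Tt T' : Sp S}

theorem sq_eq_bot_of_sqZero {B : Type u} [CommRing B] {K : Ideal B}
    (h : sqZero (Spec.map (CommRingCat.ofHom (Ideal.Quotient.mk K)))) : K ^ 2 = ⊥ := by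
  have : IsClosedImmersion (Spec.map (CommRingCat.ofHom (Ideal.Quotient.mk K))) :=
    IsClosedImmersion.spec_of_surjective _ Ideal.Quotient.mk_surjective
  have h' := congrArg (fun J => J.ideal ⟨⊤, isAffineOpen_top (Spec (CommRingCat.of B))⟩) h
  simp only [Scheme.IdealSheafData.ideal_mul, Pi.mul_apply, Scheme.IdealSheafData.ideal_bot,
    Pi.bot_apply, Scheme.Hom.ker_apply] at h'
  have key : ∀ x ∈ K, (Scheme.ΓSpecIso (.of B)).inv.hom x ∈
      RingHom.ker (Spec.map (CommRingCat.ofHom (Ideal.Quotient.mk K))).appTop.hom := fun x hx => by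
    have := congr($(Scheme.ΓSpecIso_inv_naturality (CommRingCat.ofHom (Ideal.Quotient.mk K))).hom x)
    simp only [CommRingCat.hom_comp, RingHom.comp_apply, CommRingCat.hom_ofHom] at this
    rw [RingHom.mem_ker, ← this, Ideal.Quotient.eq_zero_iff_mem.2 hx, map_zero]
  rw [eq_bot_iff, pow_two, Ideal.mul_le]
  intro x hx y hy
  rw [Ideal.mem_bot]
  apply (ConcreteCategory.bijective_of_isIso (Scheme.ΓSpecIso (CommRingCat.of B)).inv).1
  rw [map_mul, map_zero]
  have := Ideal.mul_mem_mul (key x hx) (key y hy)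
  exact Ideal.mem_bot.1 (h'.le this)

theorem sq_eq_bot_of_quotMap {B : Type u} [CommRing B] {str : Spec (.of B) ⟶ S} {K : Ideal B}
    (h : sqZero (quotMap str K).left) : K ^ 2 = ⊥ :=
  sq_eq_bot_of_sqZero h

theorem good_of_etale {j : Tt ⟶ T'} (hj : IsFOThickMor j) {W : Over S} {c : (yon S).obj W ⟶ T'}
    (hc : RepWith @Etale c) : Good j c := by
  intro B str e he
  have : IsOpenImmersion e.left := he
  have hb : RepWith @Etale ((yon S).map e ≫ c) :=
    repWith_comp ((repWith_yon_map_iff _ _).2 (inferInstanceAs (Etale e.left))) hc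
  obtain ⟨W0, i, fst, pb⟩ := hj.1.1 ((yon S).map e ≫ c)
  have hi : IsClosedImmersion i.left := (hj.1.2 _ fst i pb).1
  obtain ⟨K, ε, hε⟩ := IsClosedImmersion.Spec_iff.1 hi
  let ε' : quotPt str K ⟶ W0 := Over.homMk ε.inv (by
    show ε.inv ≫ W0.hom = Spec.map (CommRingCat.ofHom (Ideal.Quotient.mk K)) ≫ str
    rw [← Over.w i, hε, Category.assoc, Iso.inv_hom_id_assoc]; rfl)
  have : IsIso ((Over.forget S).map ε') := inferInstanceAs (IsIso ε.inv)
  have : IsIso ε' := isIso_of_reflects_iso ε' (Over.forget S)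
  have hε' : ε' ≫ i = quotMap str K := Over.OverMorphism.ext (by
    rw [Over.comp_left, hε]
    exact Iso.inv_hom_id_assoc ε _)
  have sq : IsPullback ((yon S).map ε') ((yon S).map (quotMap str K)) ((yon S).map i) (𝟙 _) :=
    IsPullback.of_horiz_isIso ⟨by rw [← Functor.map_comp, hε', Category.comp_id]⟩
  have pb' := sq.paste_horiz pb
  rw [Category.id_comp] at pb'
  have hV : IsAffine (Over.mk str).left := inferInstanceAs (IsAffine (Spec (CommRingCat.of B)))
  have hz := hj.2 (V := Over.mk str) (W := quotPt str K) ((yon S).map e ≫ c)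
    ((yon S).map ε' ≫ fst) (quotMap str K) hV hb pb'
  exact ⟨K, (yon S).map ε' ≫ fst, sq_eq_bot_of_quotMap hz, pb'⟩

theorem isLift_of_hom {f : F ⟶ G} {j : Tt ⟶ T'} {top : Tt ⟶ F} {bot : T' ⟶ G} {W : Over S}
    (c : (yon S).obj W ⟶ T') {l : T' ⟶ F} (h1 : j ≫ l = top) (h2 : l ≫ f = bot) :
    IsLift f j top bot c (c ≫ l) where
  w := by rw [Category.assoc, h2]
  restrict Z k k0 e := by rw [← Category.assoc, e, Category.assoc, h1]

theorem epi_of_etale_surjective {V : Over S} {b : (yon S).obj V ⟶ T'} (hb : RepWith @Etale b)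
    (hs : RepWith @Surjective b) : Epi b :=
  H13AlgSp.epi_of_local_lifts b fun T y => by
    obtain ⟨W, w, k', sq⟩ := hb.1 y
    have hwe : Etale w.left := hb.2 y k' w sq
    have hws : Surjective w.left := hs.2 y k' w sq
    exact ⟨PUnit, fun _ => W, fun _ => w, H13AlgSp.ofArrows_mem_J _ (fun _ => inferInstance)
      (fun _ => inferInstance) (fun t => ⟨⟨⟩, w.left.surjective t⟩), fun _ => ⟨k', sq.w⟩⟩

/-- Uniqueness of dotted arrows along a first order thickening of algebraic spaces. -/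
theorem hom_ext_thick {f : F ⟶ G} (hf : IsFormallyUnramifiedMor f) {j : Tt ⟶ T'}
    (hj : IsFOThickMor j) (hT : IsAlgSpace T') {top : Tt ⟶ F} {bot : T' ⟶ G}
    (w : top ≫ f = j ≫ bot) {l l' : T' ⟶ F} (h1 : j ≫ l = top) (h2 : l ≫ f = bot)
    (h1' : j ≫ l' = top) (h2' : l' ≫ f = bot) : l = l' := by
  obtain ⟨V, b, hb, hbs⟩ := hT.atlas
  have := epi_of_etale_surjective hb hbs
  rw [← cancel_epi b]
  exact IsLift.unique hf w (good_of_etale hj hb) (isLift_of_hom b h1 h2) (isLift_of_hom b h1' h2')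

/-- Existence of dotted arrows along a first order thickening of algebraic spaces. -/
theorem exists_lift_thick {f : F ⟶ G} (hf : IsFormallyEtaleMor f) {j : Tt ⟶ T'}
    (hj : IsFOThickMor j) (hT : IsAlgSpace T') {top : Tt ⟶ F} {bot : T' ⟶ G}
    (w : top ≫ f = j ≫ bot) : ∃ l : T' ⟶ F, j ≫ l = top ∧ l ≫ f = bot := by
  obtain ⟨V, b, hb, hbs⟩ := hT.atlas
  have := epi_of_etale_surjective hb hbs
  obtain ⟨m, hm⟩ := exists_isLift hf w (good_of_etale hj hb)
  obtain ⟨R, r₂, r₁', pbR⟩ := hb.1 b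
  obtain ⟨r₁, rfl⟩ := (yon S).map_surjective r₁'
  have hu := formallyUnramified_of_formallyEtale hf
  have e : (yon S).map r₁ ≫ m = (yon S).map r₂ ≫ m := by
    refine IsLift.unique hu w (good_of_etale hj (repWith_comp
      (repWith_of_isPullback pbR.flip hb) hb)) (hm.precomp r₁) ?_
    rw [pbR.w]; exact hm.precomp r₂
  have : EffectiveEpi b := by
    have := IsRegularEpiCategory.regularEpiOfEpi b
    infer_instance
  let l := EffectiveEpi.desc b m fun g₁ g₂ hg => by
    rw [← pbR.lift_fst g₁ g₂ hg]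
    conv_rhs => rw [← pbR.lift_snd g₁ g₂ hg]
    rw [Category.assoc, Category.assoc, e]
  have hl : b ≫ l = m := EffectiveEpi.fac _ _ _
  refine ⟨l, hom_ext_yon fun Z k0 => ?_, by rw [← cancel_epi b, ← Category.assoc, hl, hm.w]⟩
  obtain ⟨W, v, k', sq⟩ := hb.1 (k0 ≫ j)
  have hve : Etale v.left := hb.2 _ k' v sq
  have hvs : Surjective v.left := hbs.2 _ k' v sq
  obtain ⟨k, rfl⟩ := (yon S).map_surjective k'
  refine H13AlgSp.hom_ext_of_cover (fun _ : PUnit.{u+1} => v) (H13AlgSp.ofArrows_mem_J _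
    (fun _ => inferInstance) (fun _ => inferInstance) (fun t => ⟨⟨⟩, v.left.surjective t⟩))
    fun _ => ?_
  have h := hm.restrict W k ((yon S).map v ≫ k0) (by rw [sq.w, Category.assoc])
  rw [← hl, ← Category.assoc, sq.w, Category.assoc, Category.assoc, Category.assoc] at h
  exact h

end Groth.Agent.H13Inf
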