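import Groth.Agent.H13Inf.Basic

/-!
Infinitesimal lifting squares over affine schemes.
-/

universe u

open CategoryTheory CategoryTheory.Limits AlgebraicGeometry Opposite
open AlgSp

namespace Groth.Agent.H13Inf

variable {S : Scheme.{u}} {F G : Sp S}

theorem isPushout_quotient {A B : Type u} [CommRing A] [CommRing B] (φ : A →+* B) (I : Ideal A) :
    IsPushout (CommRingCat.ofHom (Ideal.Quotient.mk I)) (CommRingCat.ofHom φ)
      (CommRingCat.ofHom (Ideal.quotientMap (I.map φ) φ Ideal.le_comap_map))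
      (CommRingCat.ofHom (Ideal.Quotient.mk (I.map φ))) := by
  refine IsPushout.of_isColimit' ⟨by ext x; rfl⟩ (PushoutCocone.IsColimit.mk _
    (fun s => CommRingCat.ofHom (Ideal.Quotient.lift (I.map φ) s.inr.hom ?_)) ?_ ?_ ?_)
  · intro b hb
    have : I.map φ ≤ RingHom.ker s.inr.hom := Ideal.map_le_iff_le_comap.2 fun a ha => by
      have e := congr($(s.condition).hom a)
      simp only [CommRingCat.hom_comp, RingHom.comp_apply, CommRingCat.hom_ofHom] at e
      rw [Ideal.mem_comap, RingHom.mem_ker, ← e, Ideal.Quotient.eq_zero_iff_mem.2 ha, map_zero]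
    exact this hb
  · intro s
    ext x
    exact congr($(s.condition).hom x).symm
  · intro s
    ext x
    simp
  · intro s m h1 h2
    ext x
    exact congr($(h2).hom x)

theorem isPullback_quotPt {A B : Type u} [CommRing A] [CommRing B] (φ : A →+* B) (I : Ideal A)
    (str : Spec (.of A) ⟶ S) :
    IsPullback
      (Over.homMk (Spec.map (CommRingCat.ofHom (Ideal.quotientMap (I.map φ) φ Ideal.le_comap_map))) (by
          dsimp
          rw [← Category.assoc, ← Category.assoc, ← Spec.map_comp, ← Spec.map_comp]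
          rfl) :
        quotPt (Spec.map (CommRingCat.ofHom φ) ≫ str) (I.map φ) ⟶ quotPt str I)
      (quotMap (Spec.map (CommRingCat.ofHom φ) ≫ str) (I.map φ)) (quotMap str I)
      (Over.homMk (Spec.map (CommRingCat.ofHom φ)) rfl :
        Over.mk (Spec.map (CommRingCat.ofHom φ) ≫ str) ⟶ Over.mk str) :=
  IsPullback.of_map (Over.forget S)
    (Over.OverMorphism.ext (by
      simp only [Over.comp_left, Over.homMk_left, ← Spec.map_comp]
      rfl))
    (isPullback_SpecMap_of_isPushout _ _ _ _ (isPushout_quotient φ I))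

/-- Every scheme over the affine scheme of a lifting square is good. -/
theorem good_infSq {f : F ⟶ G} (sq : InfSq f) {W : Over S} (c : W ⟶ sq.ptT') :
    Good ((yon S).map sq.j) ((yon S).map c) := by
  intro B str e _
  obtain ⟨φ, hφ⟩ : ∃ φ : sq.A →+* B, (e ≫ c).left = Spec.map (CommRingCat.ofHom φ) :=
    ⟨(Spec.preimage (e ≫ c).left).hom, (Spec.map_preimage _).symm⟩
  obtain rfl : str = Spec.map (CommRingCat.ofHom φ) ≫ sq.str :=
    (Over.w (e ≫ c)).symm.trans (congrArg (· ≫ sq.str) hφ)
  have he : (Over.homMk (Spec.map (CommRingCat.ofHom φ)) rfl :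
      Over.mk (Spec.map (CommRingCat.ofHom φ) ≫ sq.str) ⟶ sq.ptT') = e ≫ c :=
    Over.OverMorphism.ext hφ.symm
  have h := (isPullback_quotPt φ sq.I sq.str).map (yon S)
  rw [he, Functor.map_comp] at h
  exact ⟨sq.I.map φ, _, by rw [← Ideal.map_pow, sq.sq_zero, Ideal.map_bot], h⟩

theorem isClosedImmersion_j {f : F ⟶ G} (sq : InfSq f) : IsClosedImmersion sq.j.left :=
  IsClosedImmersion.spec_of_surjective _ Ideal.Quotient.mk_surjective

theorem surjective_j {f : F ⟶ G} (sq : InfSq f) : Function.Surjective sq.j.left.base := fun p => by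
  show p ∈ Set.range (PrimeSpectrum.comap (Ideal.Quotient.mk sq.I))
  rw [range_comap_of_surjective _ _ Ideal.Quotient.mk_surjective, Ideal.mk_ker]
  intro x hx
  have := Ideal.pow_mem_pow hx 2
  rw [sq.sq_zero, Ideal.mem_bot] at this
  exact p.2.mem_of_pow_mem 2 (by simp [this])

theorem isNilpotent_ker_j {f : F ⟶ G} (sq : InfSq f) : IsNilpotent sq.j.left.ker := by
  have : IsAffine sq.ptT'.left := inferInstanceAs (IsAffine (Spec _))
  refine ⟨2, Scheme.IdealSheafData.ext_of_isAffine ?_⟩
  have := isClosedImmersion_j sq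
  rw [Scheme.IdealSheafData.ideal_pow, Pi.pow_apply, Scheme.Hom.ker_apply]
  show RingHom.ker (Spec.map (CommRingCat.ofHom (Ideal.Quotient.mk sq.I))).appTop.hom ^ 2 = ⊥
  rw [eq_bot_iff, pow_two, Ideal.mul_le]
  have key : ∀ z : Γ(Spec (CommRingCat.of sq.A), ⊤),
      (Spec.map (CommRingCat.ofHom (Ideal.Quotient.mk sq.I))).appTop.hom z = 0 →
        (Scheme.ΓSpecIso _).hom.hom z ∈ sq.I := fun z hz => by
    have := congr($(Scheme.ΓSpecIso_naturality (CommRingCat.ofHom (Ideal.Quotient.mk sq.I))).hom z)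
    simp only [CommRingCat.hom_comp, RingHom.comp_apply, CommRingCat.hom_ofHom] at this
    rw [← Ideal.Quotient.eq_zero_iff_mem, ← this]
    exact (congrArg _ hz).trans (map_zero _)
  intro x hx y hy
  rw [Ideal.mem_bot]
  apply (ConcreteCategory.bijective_of_isIso (Scheme.ΓSpecIso (CommRingCat.of sq.A)).hom).1
  have := Ideal.mul_mem_mul (key x hx) (key y hy)
  rw [← pow_two, sq.sq_zero, Ideal.mem_bot] at this
  rw [map_mul, map_zero]
  exact this

theorem eq_top_of_isLift {f : F ⟶ G} (sq : InfSq f) {m : (yon S).obj sq.ptT' ⟶ F}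
    (h : IsLift f ((yon S).map sq.j) sq.top sq.bot ((yon S).map (𝟙 sq.ptT')) m) :
    (yon S).map sq.j ≫ m = sq.top ∧ m ≫ f = sq.bot := by
  refine ⟨?_, by simpa using h.w⟩
  have := h.restrict _ sq.j ((yon S).map (𝟙 sq.ptT)) (by simp)
  simpa using this

/-- A representable morphism which is, over affine schemes, formally unramified is formally
unramified. -/
theorem isFormallyUnramifiedMor_of_repWith {f : F ⟶ G} {P : MorphismProperty Scheme.{u}}
    (hP : ∀ {X Y : Scheme.{u}} (g : X ⟶ Y), P g → FormallyUnramified g) (hf : RepWith P f) :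
    IsFormallyUnramifiedMor f := by
  intro sq l l' h1 h2 h1' h2'
  obtain ⟨W, g', g, pb⟩ := hf.1 sq.bot
  have hg : FormallyUnramified g'.left := hP _ (hf.2 _ _ _ pb)
  let s := pb.lift l ((yon S).map (𝟙 _)) (by simp [h2])
  let s' := pb.lift l' ((yon S).map (𝟙 _)) (by simp [h2'])
  obtain ⟨σ, hσ⟩ := (yon S).map_surjective s
  obtain ⟨σ', hσ'⟩ := (yon S).map_surjective s'
  have e : σ.left = σ'.left := by
    have := isClosedImmersion_j sq
    refine FormallyUnramified.hom_ext sq.j.left (isNilpotent_ker_j sq) g'.left ?_ ?_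
    · rw [← Over.comp_left, ← Over.comp_left]
      refine congrArg CommaMorphism.left ((yon S).map_injective (pb.hom_ext ?_ ?_))
      · simp only [Functor.map_comp, hσ, hσ', Category.assoc, s, s', pb.lift_fst, h1, h1']
      · simp only [Functor.map_comp, hσ, hσ', Category.assoc, s, s', pb.lift_snd]
    · rw [← Over.comp_left, ← Over.comp_left]
      refine congrArg CommaMorphism.left ((yon S).map_injective ?_)
      simp only [Functor.map_comp, hσ, hσ', s, s', pb.lift_snd]
  have : s = s' := by rw [← hσ, ← hσ', Over.OverMorphism.ext e]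
  calc l = s ≫ g := (pb.lift_fst ..).symm
    _ = s' ≫ g := by rw [this]
    _ = l' := pb.lift_fst ..

/-- A representable etale morphism is formally etale. -/
theorem isFormallyEtaleMor_of_repWith {f : F ⟶ G}
    (hP : RepWith @MoreMor.IsFormallyEtaleHom f) : IsFormallyEtaleMor f := by
  intro sq
  obtain ⟨W, g', g, pb⟩ := hP.1 sq.bot
  have hg : MoreMor.IsFormallyEtaleHom g'.left := hP.2 _ _ _ pb
  let t := pb.lift sq.top ((yon S).map sq.j) sq.comm
  obtain ⟨τ, hτ⟩ := (yon S).map_surjective t
  obtain ⟨σ, ⟨hσ1, hσ2⟩, hu⟩ := hg sq.A sq.I sq.sq_zero τ.left (𝟙 _) (by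
    have : τ ≫ g' = sq.j := (yon S).map_injective (by rw [Functor.map_comp, hτ, pb.lift_snd])
    exact (Category.comp_id _).trans (congrArg CommaMorphism.left this).symm)
  have hσw : σ ≫ W.hom = sq.str := by
    rw [← Over.w g', ← Category.assoc, hσ2, Category.id_comp]; rfl
  let σ' : sq.ptT' ⟶ W := Over.homMk σ hσw
  refine ⟨(yon S).map σ' ≫ g, ⟨?_, ?_⟩, ?_⟩
  · rw [← Category.assoc, ← Functor.map_comp,
      show sq.j ≫ σ' = τ from Over.OverMorphism.ext hσ1, hτ, pb.lift_fst]
  · rw [Category.assoc, pb.w, ← Category.assoc, ← Functor.map_comp,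
      show σ' ≫ g' = 𝟙 sq.ptT' from Over.OverMorphism.ext hσ2]
    exact (congrArg (· ≫ sq.bot) ((yon S).map_id _)).trans (Category.id_comp _)
  · rintro l ⟨h1, h2⟩
    let s := pb.lift l ((yon S).map (𝟙 _)) (by simp [h2])
    obtain ⟨ρ, hρ⟩ := (yon S).map_surjective s
    have e : ρ = σ' := Over.OverMorphism.ext (hu ρ.left ⟨?_, ?_⟩)
    · rw [← e, hρ, pb.lift_fst]
    · refine congrArg CommaMorphism.left (show sq.j ≫ ρ = τ from (yon S).map_injective (pb.hom_ext ?_ ?_))
      · simp only [Functor.map_comp, hρ, hτ, s, t, Category.assoc, pb.lift_fst, h1]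
      · simp only [Functor.map_comp, hρ, hτ, s, t, Category.assoc, pb.lift_snd]
        rw [← Functor.map_comp, Category.comp_id]
    · refine congrArg CommaMorphism.left (show ρ ≫ g' = 𝟙 sq.ptT' from (yon S).map_injective ?_)
      rw [Functor.map_comp, hρ, pb.lift_snd]

end Groth.Agent.H13Inf
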