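import Groth.Agent.H13Inf.Thick
import Mathlib.RingTheory.Flat.EquationalCriterion

/-!
Base change of first order thickenings of algebraic spaces along arbitrary morphisms.
-/

universe u

open CategoryTheory CategoryTheory.Limits AlgebraicGeometry Opposite
open AlgSp Groth.Agent.H12AlgSp

namespace Groth.Agent.H13Inf

variable {S : Scheme.{u}} {Tt T' : Sp S}

/-- An element killed by a flat map is killed by an element not in the contraction of a prime. -/
theorem exists_mul_eq_zero_of_flat {A C : Type u} [CommRing A] [CommRing C] (φ : A →+* C)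
    (hφ : φ.Flat) {x : A} (hx : φ x = 0) (q : Ideal C) [q.IsPrime] :
    ∃ a, a * x = 0 ∧ φ a ∉ q := by
  algebraize [φ]
  obtain ⟨k, a, y, hy, ha⟩ := Module.Flat.isTrivialRelation_of_sum_smul_eq_zero
    (R := A) (M := C) (f := fun _ : Fin 1 => x) (x := fun _ : Fin 1 => (1 : C))
    (by simp [Algebra.smul_def, RingHom.algebraMap_toAlgebra, hx])
  by_contra! H
  refine q.one_notMem ?_
  have h1 : (1 : C) = _ := hy 0
  rw [h1]
  refine Ideal.sum_mem _ fun j _ => ?_
  rw [Algebra.smul_def, RingHom.algebraMap_toAlgebra]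
  refine q.mul_mem_right _ (H _ ?_)
  simpa [mul_comm] using ha j

/-- The map of spectra of quotients by two nested ideals. -/
noncomputable abbrev quotLe {B : Type u} [CommRing B] (str : Spec (.of B) ⟶ S) {K J : Ideal B}
    (h : K ≤ J) : quotPt str J ⟶ quotPt str K :=
  Over.homMk (Spec.map (CommRingCat.ofHom (Ideal.Quotient.factor h))) (by
    dsimp
    rw [← Category.assoc, ← Spec.map_comp]
    rfl)

theorem quotLe_comp {B : Type u} [CommRing B] (str : Spec (.of B) ⟶ S) {K J : Ideal B} (h : K ≤ J) :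
    quotLe str h ≫ quotMap str K = quotMap str J :=
  Over.OverMorphism.ext (by
    simp only [Over.comp_left, Over.homMk_left, ← Spec.map_comp]
    rfl)

/-- A map of spectra of quotients lifting a map of spectra maps one ideal into the other. -/
theorem le_comap_of_quotMap {B C : Type u} [CommRing B] [CommRing C] {str : Spec (.of B) ⟶ S}
    {str' : Spec (.of C) ⟶ S} {φ : B →+* C} {g : Over.mk str' ⟶ Over.mk str}
    (hg : g.left = Spec.map (CommRingCat.ofHom φ)) {K : Ideal B} {L : Ideal C}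
    (ζ : quotPt str' L ⟶ quotPt str K) (h : ζ ≫ quotMap str K = quotMap str' L ≫ g) :
    K ≤ L.comap φ := by
  intro x hx
  obtain ⟨r, hr⟩ : ∃ r : B ⧸ K →+* C ⧸ L, ζ.left = Spec.map (CommRingCat.ofHom r) :=
    ⟨(Spec.preimage ζ.left).hom, (Spec.map_preimage _).symm⟩
  have e := congrArg (fun t => t.left) h
  simp only [Over.comp_left, Over.homMk_left, hg, hr, ← Spec.map_comp] at e
  have e' := congr($(Spec.map_injective e).hom x)
  simp only [CommRingCat.hom_comp, RingHom.comp_apply, CommRingCat.hom_ofHom,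
    Ideal.Quotient.eq_zero_iff_mem.2 hx, map_zero] at e'
  rw [Ideal.mem_comap, ← Ideal.Quotient.eq_zero_iff_mem, ← e']

/-- An affine open piece through a point. -/
theorem exists_piece (W : Over S) (x : W.left) (O : W.left.Opens) (hx : x ∈ O) :
    ∃ (B : CommRingCat.{u}) (str : Spec (.of B) ⟶ S) (e : Over.mk str ⟶ W) (z : Spec (.of B)),
      IsOpenImmersion e.left ∧ e.left z = x ∧ ∀ w, e.left w ∈ O := by
  obtain ⟨U, hU, hxU, hUO⟩ := exists_isAffineOpen_mem_and_subset hx
  obtain ⟨z, hz⟩ : x ∈ Set.range (show _ ⟶ W.left from hU.fromSpec) := by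
    rw [hU.range_fromSpec]; exact hxU
  refine ⟨Γ(W.left, U), hU.fromSpec ≫ W.hom, Over.homMk hU.fromSpec rfl, z,
    inferInstanceAs (IsOpenImmersion hU.fromSpec), hz, fun w => hUO ?_⟩
  exact hU.range_fromSpec.le ⟨w, rfl⟩

/-- First order thickenings are square zero over every affine scheme mapping to the target. -/
theorem good_of_isFOThick {j : Tt ⟶ T'} (hj : IsFOThickMor j) (hT : IsAlgSpace T') {W : Over S}
    (c : (yon S).obj W ⟶ T') : Good j c := by
  intro B str e _
  generalize (yon S).map e ≫ c = c'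
  obtain ⟨W0, i, fst, pb⟩ := hj.1.1 c'
  have hi : IsClosedImmersion i.left := (hj.1.2 _ fst i pb).1
  obtain ⟨K, ε, hε⟩ := IsClosedImmersion.Spec_iff.1 hi
  let ε' : quotPt str K ⟶ W0 := Over.homMk ε.inv (by
    show ε.inv ≫ W0.hom = Spec.map (CommRingCat.ofHom (Ideal.Quotient.mk K)) ≫ str
    rw [← Over.w i, hε, Category.assoc, Iso.inv_hom_id_assoc]; rfl)
  have : IsIso ((Over.forget S).map ε') := inferInstanceAs (IsIso ε.inv)
  have : IsIso ε' := isIso_of_reflects_iso ε' (Over.forget S)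
  have hε' : ε' ≫ i = quotMap str K := Over.OverMorphism.ext (by
    rw [Over.comp_left, hε]
    exact Iso.inv_hom_id_assoc ε _)
  have sq : IsPullback ((yon S).map ε') ((yon S).map (quotMap str K)) ((yon S).map i) (𝟙 _) :=
    IsPullback.of_horiz_isIso ⟨by rw [← Functor.map_comp, hε', Category.comp_id]⟩
  have pbK := sq.paste_horiz pb
  rw [Category.id_comp] at pbK
  refine ⟨K, _, ?_, pbK⟩
  rw [eq_bot_iff, pow_two, Ideal.mul_le]
  intro x hx y hy
  rw [Ideal.mem_bot]
  by_contra hne
  -- a prime containing the annihilator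
  obtain ⟨p, hp, hann⟩ := Ideal.exists_le_maximal (Ideal.span {x * y}).annihilator (fun htop => hne (by
    have := Submodule.mem_annihilator.1 (htop.ge (Submodule.mem_top (x := (1 : B)))) _
      (Ideal.mem_span_singleton_self (x * y))
    simpa using this))
  obtain ⟨U, b, hb, hbs⟩ := hT.atlas
  obtain ⟨R, rV, rU', pbR⟩ := hb.1 c'
  obtain ⟨rU, rfl⟩ := (yon S).map_surjective rU'
  have hVe : Etale rV.left := hb.2 _ _ _ pbR
  have hVs : Surjective rV.left := hbs.2 _ _ _ pbR
  obtain ⟨r, hr⟩ := rV.left.surjective (show Spec (.of B) from ⟨p, hp.isPrime⟩)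
  obtain ⟨C₀, str₀, e₀, z₀, he₀, hz₀, -⟩ := exists_piece U (rU.left r) ⊤ trivial
  obtain ⟨C, strC, eC, q, heC, hq, hO⟩ := exists_piece R r (rU.left ⁻¹ᵁ e₀.left.opensRange) (by
    exact ⟨z₀, hz₀⟩)
  have hsub : Set.range (eC ≫ rU).left ⊆ Set.range e₀.left := by
    rintro _ ⟨w, rfl⟩; exact hO w
  let m : Over.mk strC ⟶ Over.mk str₀ := Over.homMk (IsOpenImmersion.lift e₀.left (eC ≫ rU).left hsub) (by
    rw [← Over.w e₀, IsOpenImmersion.lift_fac_assoc, Over.w])
  have hm : m ≫ e₀ = eC ≫ rU := Over.OverMorphism.ext (IsOpenImmersion.lift_fac _ _ _)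
  obtain ⟨K₀, t₀, hK₀, pb₀⟩ := good_of_etale hj hb C₀ str₀ e₀ he₀
  obtain ⟨ψ, hψ⟩ : ∃ ψ : C₀ →+* C, m.left = Spec.map (CommRingCat.ofHom ψ) :=
    ⟨(Spec.preimage m.left).hom, (Spec.map_preimage _).symm⟩
  obtain ⟨φ, hφ⟩ : ∃ φ : B →+* C, (eC ≫ rV).left = Spec.map (CommRingCat.ofHom φ) :=
    ⟨(Spec.preimage (eC ≫ rV).left).hom, (Spec.map_preimage _).symm⟩
  have hflat : φ.Flat := by
    have : Flat (eC ≫ rV).left := by rw [Over.comp_left]; infer_instance
    rw [hφ] at this
    exact (HasRingHomProperty.Spec_iff (P := @Flat)).1 this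
  obtain rfl : strC = Spec.map (CommRingCat.ofHom ψ) ≫ str₀ :=
    (Over.w m).symm.trans (congrArg (· ≫ str₀) hψ)
  have hm' : (Over.homMk (Spec.map (CommRingCat.ofHom ψ)) rfl :
      Over.mk (Spec.map (CommRingCat.ofHom ψ) ≫ str₀) ⟶ Over.mk str₀) = m :=
    Over.OverMorphism.ext hψ.symm
  have hsq := (isPullback_quotPt ψ K₀ str₀).w
  rw [hm'] at hsq
  have key := le_comap_of_quotMap (g := eC ≫ rV) hφ (L := K₀.map ψ) (K := K)
  obtain ⟨ζ, hζ⟩ := (yon S).map_surjective (pbK.lift ((yon S).map (Over.homMk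
      (Spec.map (CommRingCat.ofHom (Ideal.quotientMap (K₀.map ψ) ψ Ideal.le_comap_map))) (by
        dsimp
        rw [← Category.assoc, ← Category.assoc, ← Spec.map_comp, ← Spec.map_comp]
        rfl) : quotPt (Spec.map (CommRingCat.ofHom ψ) ≫ str₀) (K₀.map ψ) ⟶ quotPt str₀ K₀) ≫ t₀)
      ((yon S).map (quotMap _ _ ≫ eC ≫ rV)) (by
      rw [Category.assoc, pb₀.w]
      simp only [← Category.assoc, ← Functor.map_comp]
      rw [hsq]
      simp only [Category.assoc]
      rw [hm]
      simp only [Functor.map_comp, Category.assoc, pbR.w]))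
  have hle := key ζ ((yon S).map_injective (by rw [Functor.map_comp, hζ, pbK.lift_snd]))
  have h0 : φ (x * y) = 0 := by
    have h := Ideal.mul_mem_mul (Ideal.mem_comap.1 (hle hx)) (Ideal.mem_comap.1 (hle hy))
    rw [← map_mul, ← Ideal.map_mul, ← pow_two, hK₀, Ideal.map_bot, Ideal.mem_bot] at h
    exact h
  obtain ⟨a, ha, haq⟩ := exists_mul_eq_zero_of_flat φ hflat h0 q.asIdeal
  have hqp : (eC ≫ rV).left q = (⟨p, hp.isPrime⟩ : PrimeSpectrum B) := by
    rw [Over.comp_left]
    exact (congrArg (rV.left ·) hq).trans hr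
  rw [hφ] at hqp
  have hap : a ∈ p := hann (Submodule.mem_annihilator.2 fun n hn => by
    obtain ⟨c, rfl⟩ := Ideal.mem_span_singleton'.1 hn
    rw [smul_eq_mul, mul_left_comm, ha, mul_zero])
  exact haq (show a ∈ (PrimeSpectrum.comap φ q).asIdeal from
    (congrArg PrimeSpectrum.asIdeal hqp).symm ▸ hap)

/-- A thickening which is square zero over affine schemes etale over the target is of first order. -/
theorem isFOThickMor_of_good {j : Tt ⟶ T'} (hj : IsThickMor j)
    (h : ∀ (W : Over S) (c : (yon S).obj W ⟶ T'), RepWith @Etale c → Good j c) : IsFOThickMor j := by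
  refine ⟨hj, fun V W b fst snd hV hb pb => ?_⟩
  let e : Over.mk (V.left.isoSpec.inv ≫ V.hom) ⟶ V := Over.homMk V.left.isoSpec.inv rfl
  have : IsIso e.left := inferInstanceAs (IsIso V.left.isoSpec.inv)
  obtain ⟨K, t, hK, sqK⟩ := h V b hb Γ(V.left, ⊤) (V.left.isoSpec.inv ≫ V.hom) e inferInstance
  obtain ⟨ε, hε⟩ := (yon S).map_surjective (pb.lift t ((yon S).map (quotMap _ K ≫ e))
    (by rw [sqK.w, Functor.map_comp, Category.assoc]))
  have hε' : ε ≫ snd = quotMap _ K ≫ e :=
    (yon S).map_injective (by rw [Functor.map_comp, hε, pb.lift_snd])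
  have hsnd : IsClosedImmersion snd.left := (hj.2 _ _ _ pb).1
  refine Scheme.IdealSheafData.ext_of_isAffine ?_
  rw [Scheme.IdealSheafData.ideal_mul, Pi.mul_apply, Scheme.Hom.ker_apply]
  show RingHom.ker snd.left.appTop.hom * RingHom.ker snd.left.appTop.hom = ⊥
  have key : ∀ z, snd.left.appTop.hom z = 0 →
      (Scheme.ΓSpecIso _).hom.hom (e.left.appTop.hom z) ∈ K := fun z hz => by
    have h1 : (quotMap (V.left.isoSpec.inv ≫ V.hom) K).left.appTop.hom (e.left.appTop.hom z) = 0 := by
      have h2 := congrArg (fun t => t.left.appTop.hom z) hε'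
      simp only [Over.comp_left, Scheme.Hom.comp_appTop, CommRingCat.hom_comp, RingHom.comp_apply] at h2
      exact h2.symm.trans ((congrArg _ hz).trans (map_zero _))
    have := congr($(Scheme.ΓSpecIso_naturality (CommRingCat.ofHom (Ideal.Quotient.mk K))).hom
      (e.left.appTop.hom z))
    simp only [CommRingCat.hom_comp, RingHom.comp_apply, CommRingCat.hom_ofHom] at this
    rw [← Ideal.Quotient.eq_zero_iff_mem]
    exact this.symm.trans ((congrArg _ h1).trans (map_zero _))
  rw [eq_bot_iff, Ideal.mul_le]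
  intro x hx y hy
  rw [Ideal.mem_bot]
  have := Ideal.mul_mem_mul (key x hx) (key y hy)
  rw [← pow_two, hK, Ideal.mem_bot] at this
  have hi : IsIso e.left.appTop := inferInstanceAs (IsIso (e.left.app ⊤))
  apply (ConcreteCategory.bijective_of_isIso e.left.appTop).1
  apply (ConcreteCategory.bijective_of_isIso (Scheme.ΓSpecIso Γ(V.left, ⊤)).hom).1
  rw [map_mul, map_mul, map_zero, map_zero]
  exact this

/-- First order thickenings are stable under base change. -/
theorem isFOThickMor_of_isPullback {T'' Tt' : Sp S} {j : Tt ⟶ T'} {j' : Tt' ⟶ T''} {p : Tt' ⟶ Tt}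
    {g : T'' ⟶ T'} (sq : IsPullback p j' j g) (hT : IsAlgSpace T') (hj : IsFOThickMor j) :
    IsFOThickMor j' := by
  refine isFOThickMor_of_good (repWith_of_isPullback sq hj.1) fun W c _ => ?_
  intro B str e he
  obtain ⟨K, t, hK, sqK⟩ := good_of_isFOThick hj hT (c ≫ g) B str e he
  exact ⟨K, sq.lift t ((yon S).map (quotMap str K) ≫ (yon S).map e ≫ c)
    (by rw [sqK.w, Category.assoc, Category.assoc]), hK,
    IsPullback.of_right (by rw [sq.lift_fst, Category.assoc]; exact sqK) (sq.lift_snd _ _ _) sq⟩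

/-- The closed immersion defined by an ideal of square zero is a first order thickening. -/
theorem isFOThickMor_quotMap {B : Type u} [CommRing B] (str : Spec (.of B) ⟶ S) {J : Ideal B}
    (hJ : J ^ 2 = ⊥) : IsFOThickMor ((yon S).map (quotMap str J)) := by
  let s : InfSq (𝟙 ((yon S).obj (Over.mk str))) := ⟨B, J, hJ, str, (yon S).map (quotMap str J),
    𝟙 _, by rw [Category.comp_id]; try exact (Category.comp_id _).symm⟩
  refine isFOThickMor_of_good ((repWith_yon_map_iff _ _).2
    ⟨isClosedImmersion_j s, ⟨surjective_j s⟩⟩) fun W c _ => ?_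
  obtain ⟨c, rfl⟩ := (yon S).map_surjective c
  exact good_infSq s c

end Groth.Agent.H13Inf
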