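import Groth.Agent.H13Inf.Affine
import Groth.Agent.H18Et.ClosedLift
import Groth.Agent.H8Props.FormallyEtale
import Groth.Agent.H12AlgSp.Basic

/-!
Descent of formal unramifiedness and formal etaleness along etale surjections.
-/

universe u

open CategoryTheory CategoryTheory.Limits AlgebraicGeometry Opposite
open AlgSp Groth.Agent.H12AlgSp

namespace Groth.Agent.H13Inf

variable {S : Scheme.{u}} {F G H : Sp S}

theorem isFormallyEtaleHom_of_etale {X Y : Scheme.{u}} (f : X ⟶ Y) [Etale f] :
    MoreMor.IsFormallyEtaleHom f := by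
  rw [H8Props.FormallyEtale.isFormallyEtaleHom_iff f]
  intro U V hU hV hUV
  have h := HasRingHomProperty.appLE @Etale f inferInstance ⟨V, hV⟩ ⟨U, hU⟩ hUV
  algebraize [(f.appLE V U hUV).hom]
  infer_instance

theorem isFormallyEtaleMor_of_etale {f : F ⟶ G} (hf : RepWith @Etale f) : IsFormallyEtaleMor f :=
  isFormallyEtaleMor_of_repWith (repWith_le (fun _ _ g (_ : Etale g) => isFormallyEtaleHom_of_etale g) hf)

theorem Good.of_isPullback {Tt T' Tt' T'' : Sp S} {j : Tt ⟶ T'} {j' : Tt' ⟶ T''} {p : Tt' ⟶ Tt}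
    {v : T'' ⟶ T'} (sq : IsPullback p j' j v) {W : Over S} {c : (yon S).obj W ⟶ T''}
    (h : Good j (c ≫ v)) : Good j' c := by
  intro B str e he
  obtain ⟨K, t, hK, sqK⟩ := h B str e he
  rw [← Category.assoc] at sqK
  exact ⟨K, sq.lift t ((yon S).map (quotMap str K) ≫ (yon S).map e ≫ c) (by
    rw [sqK.w, Category.assoc, Category.assoc, Category.assoc]), hK,
    IsPullback.of_right (by rw [sq.lift_fst]; exact sqK) (sq.lift_snd ..) sq⟩

/-- A morphism which is a lift on the members of a covering is a lift. -/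
theorem isLift_of_cover {f : F ⟶ G} {Tt T' : Sp S} {j : Tt ⟶ T'} {top : Tt ⟶ F} {bot : T' ⟶ G}
    {W : Over S} {c : (yon S).obj W ⟶ T'} {κ : Type u} {C : κ → Over S} (e : ∀ i, C i ⟶ W)
    (he : Sieve.ofArrows C e ∈ J S W) {m : (yon S).obj W ⟶ F}
    (hm : ∀ i, IsLift f j top bot ((yon S).map (e i) ≫ c) ((yon S).map (e i) ≫ m)) :
    IsLift f j top bot c m where
  w := H13AlgSp.hom_ext_of_cover e he fun i => by rw [← Category.assoc, (hm i).w, Category.assoc]
  restrict Z k k0 hk := by
    apply (J S).uliftYonedaEquiv.injective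
    refine (((isSheaf_iff_isSheaf_of_type _ _).1 F.property) _
      ((J S).pullback_stable k he)).isSeparatedFor.ext ?_
    intro Z' g hg
    obtain ⟨_, l, _, ⟨i⟩, hl⟩ := hg
    rw [GrothendieckTopology.uliftYonedaEquiv_naturality,
      GrothendieckTopology.uliftYonedaEquiv_naturality]
    refine congrArg _ ?_
    rw [← Category.assoc, ← Category.assoc, ← Functor.map_comp, ← hl, Functor.map_comp, Category.assoc,
      (hm i).restrict Z' l ((yon S).map g ≫ k0)]
    rw [← Category.assoc, ← Functor.map_comp, hl, Functor.map_comp, Category.assoc, hk, Category.assoc]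

theorem isFormallyUnramifiedMor_of_comp {a : F ⟶ G} {b : G ⟶ H} (ha : RepWith @Etale a)
    (ha' : RepWith @Surjective a) (h : IsFormallyUnramifiedMor (a ≫ b)) :
    IsFormallyUnramifiedMor b := by
  intro sq l l' h1 h2 h1' h2'
  obtain ⟨V, v, m, pb⟩ := ha.1 l
  have : Etale v.left := ha.2 _ _ _ pb
  have : Surjective v.left := ha'.2 _ _ _ pb
  have hcov : Sieve.ofArrows (fun _ : PUnit.{u+1} => V) (fun _ => v) ∈ J S sq.ptT' :=
    H13AlgSp.ofArrows_mem_J _ (fun _ => inferInstanceAs (Flat v.left))
      (fun _ => inferInstanceAs (LocallyOfFinitePresentation v.left))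
      (fun t => ⟨PUnit.unit, v.left.surjective t⟩)
  refine H13AlgSp.hom_ext_of_cover _ hcov fun _ => ?_
  have sqV := IsPullback.of_hasPullback ((yon S).map sq.j) ((yon S).map v)
  have hgood : Good (pullback.snd ((yon S).map sq.j) ((yon S).map v)) (𝟙 ((yon S).obj V)) :=
    Good.of_isPullback sqV (by rw [Category.id_comp]; exact good_infSq sq v)
  have w : (pullback.snd _ _ ≫ m) ≫ a =
      pullback.snd ((yon S).map sq.j) ((yon S).map v) ≫ (yon S).map v ≫ l' := by
    rw [Category.assoc, pb.w, ← Category.assoc, ← sqV.w, Category.assoc, h1, ← h1', ← Category.assoc,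
      sqV.w, Category.assoc]
  obtain ⟨m', hm'⟩ := exists_isLift (isFormallyEtaleMor_of_etale ha) w hgood
  have e : m = m' := IsLift.unique (f := a ≫ b) (top := pullback.snd _ _ ≫ m)
    (bot := (yon S).map v ≫ sq.bot) h
    (by rw [Category.assoc, ← Category.assoc m a, pb.w, Category.assoc, h2]) hgood
    ⟨by rw [← Category.assoc, pb.w, Category.assoc, h2, Category.id_comp],
      fun Z k k0 hk => by rw [Category.comp_id] at hk; rw [hk, Category.assoc]⟩
    ⟨by rw [← Category.assoc, hm'.w, Category.id_comp, Category.id_comp, Category.assoc, h2'],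
      hm'.restrict⟩
  rw [← pb.w, e, hm'.w, Category.id_comp]

theorem isFormallyEtaleMor_of_comp {a : F ⟶ G} {b : G ⟶ H} (ha : RepWith @Etale a)
    (ha' : RepWith @Surjective a) (h : IsFormallyEtaleMor (a ≫ b)) : IsFormallyEtaleMor b := by
  intro sq
  have hu : IsFormallyUnramifiedMor b :=
    isFormallyUnramifiedMor_of_comp ha ha' (formallyUnramified_of_formallyEtale h)
  obtain ⟨V0, v0, fst0, pb⟩ := ha.1 sq.top
  have : Etale v0.left := ha.2 _ _ _ pb
  have : Surjective v0.left := ha'.2 _ _ _ pb
  have := isClosedImmersion_j sq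
  choose V' q U' jU aU haff hq hj hx sqU using fun x =>
    H18Et.exists_etale_lift_closed sq.j.left v0.left x
  let C : V0.left → Over S := fun x => Over.mk (q x ≫ sq.str)
  let c : ∀ x, C x ⟶ sq.ptT' := fun x => Over.homMk (q x) rfl
  have hcov : Sieve.ofArrows C c ∈ J S sq.ptT' := by
    refine H13AlgSp.ofArrows_mem_J _ (fun x => ?_) (fun x => ?_) (fun t => ?_)
    · have := hq x; exact inferInstanceAs (Flat (q x))
    · have := hq x; exact inferInstanceAs (LocallyOfFinitePresentation (q x))
    · obtain ⟨t0, rfl⟩ := surjective_j sq t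
      obtain ⟨x, rfl⟩ := v0.left.surjective t0
      obtain ⟨y, hy⟩ := hx x
      refine ⟨x, aU x y, ?_⟩
      show (aU x ≫ q x) y = _
      rw [(sqU x).w]
      simp only [Scheme.Hom.comp_apply]
      exact congrArg sq.j.left (congrArg v0.left hy)
  have hex : ∀ x, ∃ l, IsLift b ((yon S).map sq.j) sq.top sq.bot ((yon S).map (c x)) l := by
    intro x
    let U : Over S := Over.mk (aU x ≫ q x ≫ sq.str)
    let j' : U ⟶ C x := Over.homMk (aU x) rfl
    let u : U ⟶ V0 := Over.homMk (jU x) (by
      show jU x ≫ V0.hom = aU x ≫ q x ≫ sq.str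
      rw [← Category.assoc (aU x), (sqU x).w, Category.assoc, Category.assoc,
        ← Over.w v0]
      rfl)
    have hsq : IsPullback (u ≫ v0) j' sq.j (c x) := IsPullback.of_map (Over.forget S)
      (Over.OverMorphism.ext (sqU x).w.symm) (sqU x).flip
    have sqy := hsq.map (yon S)
    have hgood : Good ((yon S).map j') (𝟙 ((yon S).obj (C x))) :=
      Good.of_isPullback sqy (by rw [Category.id_comp]; exact good_infSq sq (c x))
    have w : ((yon S).map u ≫ fst0) ≫ a ≫ b = (yon S).map j' ≫ (yon S).map (c x) ≫ sq.bot := by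
      rw [Category.assoc, ← Category.assoc fst0, pb.w, Category.assoc, sq.comm, ← Category.assoc,
        ← Category.assoc, ← Category.assoc, ← Functor.map_comp]
      exact congrArg (· ≫ sq.bot) sqy.w
    obtain ⟨m, hm⟩ := exists_isLift h w hgood
    refine ⟨m ≫ a, ⟨by rw [Category.assoc, hm.w, Category.id_comp], fun Z k k0 hk => ?_⟩⟩
    have := hm.restrict Z k (sqy.lift k0 ((yon S).map k) hk.symm)
      (by rw [sqy.lift_snd, Category.comp_id])
    rw [← Category.assoc, this]
    simp only [Category.assoc]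
    rw [pb.w, ← Functor.map_comp_assoc, ← Category.assoc, sqy.lift_fst]
  choose l hl using hex
  obtain ⟨m, hm⟩ := exists_glue c hcov l fun x y Z gx gy e => by
    refine IsLift.unique hu sq.comm ?_ ((hl x).precomp gx) ?_
    · rw [← Functor.map_comp]; exact good_infSq sq _
    · rw [← Functor.map_comp, e, Functor.map_comp]; exact (hl y).precomp gy
  have hL : IsLift b ((yon S).map sq.j) sq.top sq.bot ((yon S).map (𝟙 sq.ptT')) m :=
    isLift_of_cover c hcov fun x => by
      rw [hm x, ← Functor.map_comp, Category.comp_id]; exact hl x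
  exact ⟨m, eq_top_of_isLift sq hL, fun n ⟨h1, h2⟩ =>
    hu sq n m h1 h2 (eq_top_of_isLift sq hL).1 (eq_top_of_isLift sq hL).2⟩

end Groth.Agent.H13Inf
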