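import Groth.Agent.H13Inf.Local
import Groth.Agent.H13Inf.BaseChange
import Groth.Agent.H13AlgSp.TopInv
import Groth.Agent.H13AlgSp.Thick

/-!
Universal first order thickenings descend along etale surjective morphisms.
-/

universe u

open CategoryTheory CategoryTheory.Limits AlgebraicGeometry Opposite
open AlgSp Groth.Agent.H12AlgSp

namespace Groth.Agent.H13Inf.Descend

variable {S : Scheme.{u}} {Z Y Z' Y' X : Sp S} {e : Z ⟶ Y} {f' : Z' ⟶ Y'} {iZ : Z ⟶ Z'} {iY : Y ⟶ Y'}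
  (hZ : IsAlgSpace Z) (hY : IsAlgSpace Y) (hZ' : IsAlgSpace Z') (hY'' : IsAlgSpace Y')
  (he : IsEtaleMor e) (hes : IsSurjectiveMor e) (hiZ : IsFOThickMor iZ) (hiY : IsFOThickMor iY)
  (hf' : IsEtaleMor f') (w : iZ ≫ f' = e ≫ iY)

include hZ hY hZ' hY'' he hiZ hiY hf' w in
theorem isPullback_of_etale : IsPullback e iZ iY f' := by
  obtain ⟨P, p₁, p₂, sq⟩ : ∃ (P : Sp S) (p₁ : P ⟶ Y) (p₂ : P ⟶ Z'), IsPullback p₁ p₂ iY f' :=
    ⟨_, _, _, IsPullback.of_hasPullback _ _⟩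
  have hP : IsAlgSpace P := isAlgSpace_of_isPullback hY''.diag hY hZ' sq
  obtain ⟨l, hl₁, hl₂⟩ := sq.exists_lift e iZ w.symm
  obtain ⟨hiZm, hiZs, -, -, -⟩ := H13AlgSp.Thick.props_of_isThickMor hZ' hiZ.1
  have : Mono iZ := hiZm
  have : Mono l := mono_of_mono_fac hl₂
  have hp₁ : IsEtaleMor p₁ := H13AlgSp.TopInv.isEtaleMor_snd hZ' hY'' hY hP sq.flip hf'
  have hle : IsEtaleMor l := by
    refine isEtaleMor_of_locP_etale hP ?_
    refine locP_of_postcomp (g := p₁) etLocal_etale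
      (fun _ _ _ f g (h : Etale (f ≫ g)) (_ : Etale g) => Etale.of_comp f g) hY ?_
      (H13AlgSp.locP_etale_of_isEtaleMor hp₁)
    rw [hl₁]
    exact H13AlgSp.locP_etale_of_isEtaleMor he
  have hp₂ : Mono p₂ :=
    MorphismProperty.of_isPullback (P := MorphismProperty.monomorphisms (Sp S)) sq
      (H13AlgSp.Thick.props_of_isThickMor hY'' hiY.1).1
  have : IsIso l := H13AlgSp.TopInv.isIso_of_openImmersion_surjective
    (H13AlgSp.TopInv.openImmersion_of_etale_mono hZ hP hle) fun p => by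
      obtain ⟨z, hz⟩ := hiZs (Points.map p₂ p)
      exact ⟨z, injective_map_of_mono p₂ (by rw [← Points.map_comp, hl₂, hz])⟩
  refine IsPullback.of_iso sq (asIso l).symm (Iso.refl _) (Iso.refl _) (Iso.refl _) ?_ ?_ (by simp) (by simp)
  · simp [← hl₁]
  · simp [← hl₂]

include hZ hY hZ' hY'' he hes hiY hiZ hf' w in
theorem surjective_map : Function.Surjective (Points.map f') := fun y' => by
  obtain ⟨y, hy⟩ := (H13AlgSp.Thick.props_of_isThickMor hY'' hiY.1).2.1 y'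
  obtain ⟨z, hz⟩ := hes y
  exact ⟨Points.map iZ z, by rw [← Points.map_comp, w, Points.map_comp, hz, hy]⟩

/-- A scheme etale surjective over a scheme, lifting to a space etale surjective over the target. -/
theorem exists_scheme_cover {A B : Sp S} (hA : IsAlgSpace A) (hB : IsAlgSpace B) {g : A ⟶ B}
    (hg : IsEtaleMor g) (hgs : Function.Surjective (Points.map g)) {W : Over S}
    (c : (yon S).obj W ⟶ B) : ∃ (V : Over S) (v : V ⟶ W) (c₁ : (yon S).obj V ⟶ A),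
      Etale v.left ∧ Surjective v.left ∧ c₁ ≫ g = (yon S).map v ≫ c := by
  obtain ⟨P, q₁, q₂, sq⟩ : ∃ (P : Sp S) (q₁ : P ⟶ A) (q₂ : P ⟶ (yon S).obj W), IsPullback q₁ q₂ g c :=
    ⟨_, _, _, IsPullback.of_hasPullback _ _⟩
  have hP : IsAlgSpace P := isAlgSpace_of_isPullback hB.diag hA (IsAlgSpace.yon_obj W) sq
  have hq₂ := H13AlgSp.TopInv.isEtaleMor_snd hA hB (IsAlgSpace.yon_obj W) hP sq hg
  obtain ⟨V, π, hπ, hπs⟩ := hP.atlas
  obtain ⟨v, hv⟩ := (yon S).map_surjective (π ≫ q₂)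
  refine ⟨V, v, π ≫ q₁, (repWith_yon_map_iff _ v).1 (hv ▸ hq₂ π hπ), ⟨fun x => ?_⟩,
    by rw [hv, Category.assoc, Category.assoc, sq.w]⟩
  obtain ⟨a, ha⟩ := hgs (Points.map c (Points.ofScheme W x))
  obtain ⟨p, -, hp⟩ := exists_point_of_isPullback sq a (Points.ofScheme W x) ha
  obtain ⟨y, hy⟩ := surjective_map_of_repWith le_rfl hπs p
  obtain ⟨y, rfl⟩ := (Points.schemeEquiv V).surjective y
  refine ⟨y, (Points.schemeEquiv W).injective ?_⟩
  rw [← hy, ← Points.map_comp, ← hv] at hp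
  refine Eq.trans ?_ hp
  show Points.ofScheme W (v.left y) = Points.map ((yon S).map v) (Points.ofScheme V y)
  rw [← Points.ofPt_eq_map_ofScheme, ← Category.comp_id ((yon S).map v), ofPt_map, Points.ofPt_eq_map_ofScheme,
    Points.map_id]

include hZ hY hZ' hY'' he hes hiY hiZ hf' w

variable {hY₀ : Y ⟶ X} {hY' : Y' ⟶ X}

theorem eq_of_scheme (HU : IsUnivFOThick (e ≫ hY₀) iZ (f' ≫ hY')) (w' : iY ≫ hY' = hY₀) {W W₀ : Over S}
    {q : W₀ ⟶ W} (hq : IsFOThickMor ((yon S).map q)) (a : (yon S).obj W₀ ⟶ Y)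
    {m₁ m₂ : (yon S).obj W ⟶ Y'} (h₁ : (yon S).map q ≫ m₁ = a ≫ iY)
    (h₂ : (yon S).map q ≫ m₂ = a ≫ iY) (h : m₁ ≫ hY' = m₂ ≫ hY') : m₁ = m₂ := by
  have sqZ := isPullback_of_etale hZ hY hZ' hY'' he hiZ hiY hf' w
  obtain ⟨V, v, c₁, hv, hvs, hc₁⟩ := exists_scheme_cover hZ' hY'' hf'
    (surjective_map hZ hY hZ' hY'' he hes hiZ hiY hf' w) m₁
  obtain ⟨V₀, q', v₀, sqq⟩ : ∃ (V₀ : Over S) (q' : V₀ ⟶ V) (v₀ : V₀ ⟶ W₀), IsPullback v₀ q' q v :=
    ⟨_, _, _, IsPullback.of_hasPullback _ _⟩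
  have hq' : IsFOThickMor ((yon S).map q') :=
    isFOThickMor_of_isPullback (sqq.map (yon S)) (IsAlgSpace.yon_obj W) hq
  obtain ⟨a₁, ha₁, ha₁'⟩ := sqZ.exists_lift ((yon S).map v₀ ≫ a) ((yon S).map q' ≫ c₁) (by
    rw [Category.assoc, Category.assoc, hc₁, ← h₁, ← Category.assoc, ← Category.assoc, ← Functor.map_comp,
      ← Functor.map_comp, sqq.w])
  obtain ⟨c₂, hc₂, hc₂'⟩ := exists_lift_thick
    (isFormallyEtaleMor_of_isEtaleMor hZ' hY'' hf') hq' (IsAlgSpace.yon_obj V)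
    (top := a₁ ≫ iZ) (bot := (yon S).map v ≫ m₂) (by
      rw [Category.assoc, w, reassoc_of% ha₁, ← h₂, ← Category.assoc, ← Category.assoc, ← Functor.map_comp,
        ← Functor.map_comp, sqq.w])
  have hc : c₁ = c₂ := by
    refine (HU.2.2 (IsAlgSpace.yon_obj _) (IsAlgSpace.yon_obj _) _ a₁ ((yon S).map v ≫ m₁ ≫ hY') hq' ?_).unique
      ⟨ha₁'.symm, by rw [reassoc_of% hc₁]⟩ ⟨hc₂, by rw [reassoc_of% hc₂', h]⟩
    rw [reassoc_of% ha₁, ← Category.assoc, ← Functor.map_comp, ← sqq.w, Functor.map_comp,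
      Category.assoc, reassoc_of% h₁, w']
  refine H13AlgSp.hom_ext_of_cover (fun _ : PUnit.{u+1} => v) (H13AlgSp.ofArrows_mem_J _
    (fun _ => inferInstance) (fun _ => inferInstance) (fun t => ⟨⟨⟩, v.left.surjective t⟩)) fun _ => ?_
  rw [← hc₁, hc, hc₂']

theorem existsUnique_scheme (HU : IsUnivFOThick (e ≫ hY₀) iZ (f' ≫ hY')) (w' : iY ≫ hY' = hY₀)
    {W W₀ : Over S} {q : W₀ ⟶ W} (hq : IsFOThickMor ((yon S).map q)) (a : (yon S).obj W₀ ⟶ Y)
    (b : (yon S).obj W ⟶ X) (hab : (yon S).map q ≫ b = a ≫ hY₀) :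
    ∃! m : (yon S).obj W ⟶ Y', (yon S).map q ≫ m = a ≫ iY ∧ m ≫ hY' = b := by
  have hu : ∀ {W W₀ : Over S} {q : W₀ ⟶ W}, IsFOThickMor ((yon S).map q) →
      ∀ (a : (yon S).obj W₀ ⟶ Y) (m₁ m₂ : (yon S).obj W ⟶ Y'), (yon S).map q ≫ m₁ = a ≫ iY →
        (yon S).map q ≫ m₂ = a ≫ iY → m₁ ≫ hY' = m₂ ≫ hY' → m₁ = m₂ := fun hq a _ _ h₁ h₂ h =>
    eq_of_scheme hZ hY hZ' hY'' he hes hiZ hiY hf' w HU w' hq a h₁ h₂ h
  obtain ⟨V₀, v₀, a₀, hv₀, hv₀s, ha₀⟩ := exists_scheme_cover hZ hY he hes a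
  have hqt : MoreMor.IsThickening q.left := (isThickMor_yon_map_iff q).1 hq.1
  have : IsClosedImmersion q.left := hqt.1
  have : Surjective q.left := hqt.2
  have : UniversallyInjective q.left := inferInstance
  have : IsIntegralHom q.left := inferInstance
  obtain ⟨V', g, c₀, hg, sqc⟩ := H13AlgSp.TopInv.exists_scheme_lift q.left v₀.left
  let V : Over S := Over.mk (g ≫ W.hom)
  let v : V ⟶ W := Over.homMk g
  let q' : V₀ ⟶ V := Over.homMk c₀ (by
    change c₀ ≫ g ≫ W.hom = V₀.hom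
    rw [← Category.assoc, ← sqc.w, Category.assoc, Over.w q, Over.w v₀])
  have sqV : IsPullback v₀ q' q v := IsPullback.of_map (Over.forget S) (Over.OverMorphism.ext sqc.w) sqc
  have hv : Etale v.left := hg
  have hvs : Surjective v.left := ⟨fun x => by
    obtain ⟨x₀, rfl⟩ := q.left.surjective x
    obtain ⟨y, rfl⟩ := v₀.left.surjective x₀
    exact ⟨q'.left y, by rw [← Scheme.Hom.comp_apply, ← Scheme.Hom.comp_apply, ← Over.comp_left,
      ← Over.comp_left, sqV.w]⟩⟩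
  have hq' : IsFOThickMor ((yon S).map q') :=
    isFOThickMor_of_isPullback (sqV.map (yon S)) (IsAlgSpace.yon_obj W) hq
  have hw₀ : a₀ ≫ e ≫ iY = (yon S).map v₀ ≫ a ≫ iY := by rw [reassoc_of% ha₀]
  obtain ⟨c, ⟨hc₁, hc₂⟩, -⟩ := HU.2.2 (IsAlgSpace.yon_obj _) (IsAlgSpace.yon_obj _) _ a₀
    ((yon S).map v ≫ b) hq' (by
      rw [reassoc_of% ha₀, ← hab, ← Category.assoc, ← Category.assoc, ← Functor.map_comp,
        ← Functor.map_comp, sqV.w])
  have hqm : (yon S).map q' ≫ c ≫ f' = ((yon S).map v₀ ≫ a) ≫ iY := by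
    rw [reassoc_of% hc₁, w, hw₀, Category.assoc]
  have hcov : Sieve.ofArrows (fun _ : PUnit.{u+1} => V) (fun _ => v) ∈ J S W :=
    H13AlgSp.ofArrows_mem_J _ (fun _ => inferInstance) (fun _ => inferInstance)
      (fun t => ⟨⟨⟩, v.left.surjective t⟩)
  obtain ⟨m, hm⟩ := exists_glue (fun _ : PUnit.{u+1} => v) hcov
    (fun _ => c ≫ f') fun _ _ T gi gk hgk => by
    have sqO := IsPullback.of_hasPullback v v
    rw [← sqO.lift_fst gi gk hgk, Functor.map_comp, Category.assoc]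
    conv_rhs => rw [← sqO.lift_snd gi gk hgk, Functor.map_comp, Category.assoc]
    congr 1
    obtain ⟨R₀, qR, r₀, sqR⟩ : ∃ (R₀ : Over S) (qR : R₀ ⟶ pullback v v) (r₀ : R₀ ⟶ W₀),
        IsPullback r₀ qR q (pullback.fst v v ≫ v) := ⟨_, _, _, IsPullback.of_hasPullback _ _⟩
    obtain ⟨l₁, hl₁, hl₁'⟩ := sqV.exists_lift r₀ (qR ≫ pullback.fst v v)
      (by rw [sqR.w, Category.assoc])
    obtain ⟨l₂, hl₂, hl₂'⟩ := sqV.exists_lift r₀ (qR ≫ pullback.snd v v)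
      (by rw [sqR.w, Category.assoc, sqO.w])
    refine hu (isFOThickMor_of_isPullback (sqR.map (yon S)) (IsAlgSpace.yon_obj W) hq)
      ((yon S).map r₀ ≫ a) _ _ ?_ ?_ ?_
    · rw [← Category.assoc, ← Functor.map_comp, ← hl₁', Functor.map_comp, Category.assoc, hqm,
        ← hl₁, Functor.map_comp, Category.assoc, Category.assoc, Category.assoc]
    · rw [← Category.assoc, ← Functor.map_comp, ← hl₂', Functor.map_comp, Category.assoc, hqm,
        ← hl₂, Functor.map_comp, Category.assoc, Category.assoc, Category.assoc]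
    · simp only [Category.assoc, hc₂]
      rw [← Category.assoc, ← Functor.map_comp, sqO.w, Functor.map_comp, Category.assoc]
  have h1 : (yon S).map q ≫ m = a ≫ iY := by
    refine H13AlgSp.hom_ext_of_cover (fun _ : PUnit.{u+1} => v₀) (H13AlgSp.ofArrows_mem_J _
      (fun _ => inferInstance) (fun _ => inferInstance) (fun t => ⟨⟨⟩, v₀.left.surjective t⟩)) fun _ => ?_
    rw [← Category.assoc, ← Functor.map_comp, sqV.w, Functor.map_comp, Category.assoc, hm ⟨⟩, hqm,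
      Category.assoc]
  have h2 : m ≫ hY' = b :=
    H13AlgSp.hom_ext_of_cover _ hcov fun _ => by rw [reassoc_of% hm ⟨⟩, hc₂]
  exact ⟨m, ⟨h1, h2⟩, fun m' hm' => hu hq a m' m hm'.1 h1 (hm'.2.trans h2.symm)⟩

theorem isUnivFOThick (HU : IsUnivFOThick (e ≫ hY₀) iZ (f' ≫ hY')) (w' : iY ≫ hY' = hY₀) :
    IsUnivFOThick hY₀ iY hY' := by
  refine ⟨hiY, w', fun T T' _ hT' j a b hj hab => ?_⟩
  refine existsUnique_lift_of_local (f := hY') (top := a ≫ iY) (bot := b) (j := j) hT' fun W hW c hc => ?_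
  obtain ⟨W₀, q, t, pb, hq⟩ := exists_thick_pullback hj hc
  obtain ⟨m, ⟨m1, m2⟩, mu⟩ := existsUnique_scheme hZ hY hZ' hY'' he hes hiZ hiY hf' w HU w' hq (t ≫ a)
    (c ≫ b) (by rw [← Category.assoc, ← pb.w, Category.assoc, hab, Category.assoc])
  refine ⟨m, ⟨m2, fun Z k k0 hk => ?_⟩, fun m' hm' => mu m' ⟨?_, hm'.w⟩⟩
  · rw [← pb.lift_snd k0 ((yon S).map k) hk.symm, Category.assoc, m1, ← Category.assoc, ← Category.assoc,
      pb.lift_fst, Category.assoc]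
  · rw [hm'.restrict _ q t pb.w.symm, Category.assoc]

end Groth.Agent.H13Inf.Descend
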