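import Groth.Agent.H12AlgSp.SliceGlobal
import Groth.Agent.H13AlgSp.Refinement
import Groth.Agent.H13Inf.Basic
import Mathlib.CategoryTheory.Sites.Subsheaf

/-!
A subsheaf defined after a covering descends to an algebraic space.
-/

universe u

open CategoryTheory CategoryTheory.Limits AlgebraicGeometry Opposite
open AlgSp Groth.Agent.H12AlgSp

namespace Groth.Agent.H13Inf.ImageDescent

variable {S : Scheme.{u}} {P : Sp S} {Z' : Over S}

/-- Sections of the image sheaf lift locally. -/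
theorem exists_local_lifts (m : (yon S).obj Z' ⟶ P) (T : Over S) (y : (yon S).obj T ⟶ Sheaf.image m) :
    ∃ (κ : Type u) (C : κ → Over S) (c : ∀ i, C i ⟶ T), Sieve.ofArrows C c ∈ J S T ∧
      ∀ i, ∃ z : C i ⟶ Z', (yon S).map z ≫ m = (yon S).map (c i) ≫ y ≫ Sheaf.imageι m := by
  obtain ⟨κ, C, c, hf, hlfp, hsur, hR⟩ := H13AlgSp.exists_cover_of_mem_J ((J S).uliftYonedaEquiv y).2
  refine ⟨κ, C, c, H13AlgSp.ofArrows_mem_J _ hf hlfp hsur, fun i => ?_⟩
  obtain ⟨z, hz⟩ := hR i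
  obtain ⟨z', hz'⟩ := (yon S).map_surjective ((J S).uliftYonedaEquiv.symm z :
    (yon S).obj (C i) ⟶ (yon S).obj Z')
  refine ⟨z', (J S).uliftYonedaEquiv.injective ?_⟩
  rw [hz', GrothendieckTopology.uliftYonedaEquiv_comp, Equiv.apply_symm_apply,
    ← GrothendieckTopology.uliftYonedaEquiv_naturality, GrothendieckTopology.uliftYonedaEquiv_comp]
  exact hz

/-- The image of `m` is an algebraic space whose base change along `c` is `Z'`. -/
theorem exists_descent (m : (yon S).obj Z' ⟶ P) {A A' : Over S} (c : A' ⟶ A) (hc : fppfMor c.left)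
    (φ : Z' ⟶ A') (pr : P ⟶ (yon S).obj A) (w : m ≫ pr = (yon S).map (φ ≫ c))
    (hmono : ∀ (T : Over S) (z₁ z₂ : T ⟶ Z'), z₁ ≫ φ = z₂ ≫ φ →
      (yon S).map z₁ ≫ m = (yon S).map z₂ ≫ m → z₁ = z₂)
    (hmove : ∀ (T : Over S) (z : T ⟶ Z') (y : T ⟶ A'), y ≫ c = z ≫ φ ≫ c →
      ∃ z₂ : T ⟶ Z', z₂ ≫ φ = y ∧ (yon S).map z₂ ≫ m = (yon S).map z ≫ m) :
    ∃ (F : Sp S) (ι : F ⟶ P) (m' : (yon S).obj Z' ⟶ F), Mono ι ∧ m' ≫ ι = m ∧ IsAlgSpace F ∧
      IsPullback m' ((yon S).map φ) (ι ≫ pr) ((yon S).map c) := by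
  refine ⟨Sheaf.image m, Sheaf.imageι m, Sheaf.toImage m, inferInstance, Sheaf.toImage_ι m, ?_⟩
  have hw : Sheaf.toImage m ≫ Sheaf.imageι m ≫ pr = (yon S).map φ ≫ (yon S).map c := by
    rw [Sheaf.toImage_ι_assoc, w, Functor.map_comp]
  let l := pullback.lift (Sheaf.toImage m) ((yon S).map φ) hw
  have hl₁ : l ≫ pullback.fst _ _ = Sheaf.toImage m := pullback.lift_fst _ _ _
  have hl₂ : l ≫ pullback.snd _ _ = (yon S).map φ := pullback.lift_snd _ _ _
  have : Mono l := mono_of_yon fun T a b e => by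
    obtain ⟨a, rfl⟩ := (yon S).map_surjective a
    obtain ⟨b, rfl⟩ := (yon S).map_surjective b
    rw [hmono T a b]
    · apply (yon S).map_injective
      rw [Functor.map_comp, Functor.map_comp, ← hl₂, reassoc_of% e]
    · rw [← Sheaf.toImage_ι m, ← hl₁]
      simp only [← Category.assoc]
      rw [e]
  have : IsIso l := H13AlgSp.isIso_of_mono_of_local_lifts l fun T q => by
    obtain ⟨κ, C, e, he, hz⟩ := exists_local_lifts m T (q ≫ pullback.fst _ _)
    obtain ⟨y, hy⟩ := (yon S).map_surjective (q ≫ pullback.snd _ _)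
    refine ⟨κ, C, e, he, fun i => ?_⟩
    obtain ⟨z, hz⟩ := hz i
    obtain ⟨z₂, h₁, h₂⟩ := hmove (C i) z (e i ≫ y) ((yon S).map_injective (by
      rw [Functor.map_comp, Functor.map_comp, hy, Functor.map_comp (f := z), ← w, reassoc_of% hz,
        Category.assoc, Category.assoc]
      exact congrArg ((yon S).map (e i) ≫ q ≫ ·) pullback.condition.symm))
    refine ⟨(yon S).map z₂, pullback.hom_ext ?_ ?_⟩
    · rw [Category.assoc, hl₁, ← cancel_mono (Sheaf.imageι m), Category.assoc, Sheaf.toImage_ι, h₂, hz]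
      simp only [Category.assoc]
    · rw [Category.assoc, hl₂, ← Functor.map_comp, h₁, Functor.map_comp, hy, Category.assoc]
  have sq : IsPullback (Sheaf.toImage m) ((yon S).map φ) (Sheaf.imageι m ≫ pr) ((yon S).map c) :=
    IsPullback.of_iso_pullback ⟨hw⟩ (asIso l) hl₁ hl₂
  refine ⟨Slice.isAlgSpace_of_fppf_chart (p := Sheaf.toImage m) ?_, sq⟩
  exact repWith_of_isPullback sq.flip ((repWith_yon_map_iff _ _).2 hc)

end Groth.Agent.H13Inf.ImageDescent
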