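import Groth.Agent.H13Inf.BaseChange
import Groth.Agent.H13AlgSp.Thick

/-!
The first order infinitesimal neighbourhood is a first order thickening.
-/

universe u

open CategoryTheory CategoryTheory.Limits AlgebraicGeometry Opposite
open AlgSp Groth.Agent.H12AlgSp

namespace Groth.Agent.H13Inf

variable {S : Scheme.{u}} {Z Z₁ U T' : Sp S}

/-- The spectrum of a quotient cut out by a closed immersion. -/
theorem exists_quotPt_pullback {j : Z ⟶ T'} (hj : RepWith @IsClosedImmersion j) {B : Type u} [CommRing B]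
    {str : Spec (.of B) ⟶ S} (c : (yon S).obj (Over.mk str) ⟶ T') :
    ∃ (K : Ideal B) (t : (yon S).obj (quotPt str K) ⟶ Z),
      IsPullback t ((yon S).map (quotMap str K)) j c := by
  obtain ⟨W0, i, fst, pb⟩ := hj.1 c
  have hi : IsClosedImmersion i.left := hj.2 _ fst i pb
  obtain ⟨K, ε, hε⟩ := IsClosedImmersion.Spec_iff.1 hi
  let ε' : quotPt str K ⟶ W0 := Over.homMk ε.inv (by
    show ε.inv ≫ W0.hom = Spec.map (CommRingCat.ofHom (Ideal.Quotient.mk K)) ≫ str
    rw [← Over.w i, hε, Category.assoc, Iso.inv_hom_id_assoc]; rfl)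
  have : IsIso ((Over.forget S).map ε') := inferInstanceAs (IsIso ε.inv)
  have : IsIso ε' := isIso_of_reflects_iso ε' (Over.forget S)
  have hε' : ε' ≫ i = quotMap str K := Over.OverMorphism.ext (by
    rw [Over.comp_left, hε]
    exact Iso.inv_hom_id_assoc ε _)
  have sq : IsPullback ((yon S).map ε') ((yon S).map (quotMap str K)) ((yon S).map i) (𝟙 _) :=
    IsPullback.of_horiz_isIso ⟨by rw [← Functor.map_comp, hε', Category.comp_id]⟩
  have pb' := sq.paste_horiz pb
  rw [Category.id_comp] at pb'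
  exact ⟨K, _, pb'⟩

/-- An affine etale neighbourhood dominated by a flat affine neighbourhood of a given prime. -/
theorem exists_chart_at (hT : IsAlgSpace T') {B : Type u} [CommRing B] {str : Spec (.of B) ⟶ S}
    (c : (yon S).obj (Over.mk str) ⟶ T') (p : PrimeSpectrum B) :
    ∃ (C₀ C : CommRingCat.{u}) (str₀ : Spec (.of C₀) ⟶ S) (c₀ : (yon S).obj (Over.mk str₀) ⟶ T')
      (φ : B →+* C) (ψ : C₀ →+* C) (strC : Spec (.of C) ⟶ S) (g : Over.mk strC ⟶ Over.mk str)
      (m : Over.mk strC ⟶ Over.mk str₀) (q : PrimeSpectrum C),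
      RepWith @Etale c₀ ∧ φ.Flat ∧ g.left = Spec.map (CommRingCat.ofHom φ) ∧
      m.left = Spec.map (CommRingCat.ofHom ψ) ∧ (yon S).map g ≫ c = (yon S).map m ≫ c₀ ∧
      PrimeSpectrum.comap φ q = p := by
  obtain ⟨U, b, hb, hbs⟩ := hT.atlas
  obtain ⟨R, rV, rU', pbR⟩ := hb.1 c
  obtain ⟨rU, rfl⟩ := (yon S).map_surjective rU'
  have hVe : Etale rV.left := hb.2 _ _ _ pbR
  have hVs : Surjective rV.left := hbs.2 _ _ _ pbR
  obtain ⟨r, hr⟩ := rV.left.surjective (show Spec (.of B) from p)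
  obtain ⟨C₀, str₀, e₀, z₀, he₀, hz₀, -⟩ := exists_piece U (rU.left r) ⊤ trivial
  obtain ⟨C, strC, eC, q, heC, hq, hO⟩ := exists_piece R r (rU.left ⁻¹ᵁ e₀.left.opensRange) (by
    exact ⟨z₀, hz₀⟩)
  have hsub : Set.range (eC ≫ rU).left ⊆ Set.range e₀.left := by
    rintro _ ⟨w, rfl⟩; exact hO w
  let m : Over.mk strC ⟶ Over.mk str₀ := Over.homMk (IsOpenImmersion.lift e₀.left (eC ≫ rU).left hsub) (by
    rw [← Over.w e₀, IsOpenImmersion.lift_fac_assoc, Over.w])
  have hm : m ≫ e₀ = eC ≫ rU := Over.OverMorphism.ext (IsOpenImmersion.lift_fac _ _ _)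
  obtain ⟨ψ, hψ⟩ : ∃ ψ : C₀ →+* C, m.left = Spec.map (CommRingCat.ofHom ψ) :=
    ⟨(Spec.preimage m.left).hom, (Spec.map_preimage _).symm⟩
  obtain ⟨φ, hφ⟩ : ∃ φ : B →+* C, (eC ≫ rV).left = Spec.map (CommRingCat.ofHom φ) :=
    ⟨(Spec.preimage (eC ≫ rV).left).hom, (Spec.map_preimage _).symm⟩
  have : Flat (eC ≫ rV).left := by rw [Over.comp_left]; infer_instance
  have hflat : φ.Flat := by
    rw [hφ] at this
    exact (HasRingHomProperty.Spec_iff (P := @Flat)).1 this
  have hqp : (eC ≫ rV).left q = p := by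
    rw [Over.comp_left]
    exact (congrArg (rV.left ·) hq).trans hr
  rw [hφ] at hqp
  refine ⟨C₀, C, str₀, (yon S).map e₀ ≫ b, φ, ψ, strC, eC ≫ rV, m, q, ?_, hflat, hφ, hψ, ?_, hqp⟩
  · exact repWith_comp ((repWith_yon_map_iff _ _).2 (inferInstanceAs (Etale e₀.left))) hb
  · rw [← Category.assoc ((yon S).map m), ← Functor.map_comp, hm, Functor.map_comp, Functor.map_comp,
      Category.assoc, Category.assoc, pbR.w]

theorem eq_zero_of_charts {B : Type u} [CommRing B] {x : B}
    (h : ∀ p : PrimeSpectrum B, ∃ (C : Type u) (_ : CommRing C) (φ : B →+* C) (q : PrimeSpectrum C),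
      φ.Flat ∧ PrimeSpectrum.comap φ q = p ∧ φ x = 0) : x = 0 := by
  by_contra hne
  obtain ⟨p, hp, hann⟩ := Ideal.exists_le_maximal (Ideal.span {x}).annihilator (fun htop => hne (by
    have := Submodule.mem_annihilator.1 (htop.ge (Submodule.mem_top (x := (1 : B)))) _
      (Ideal.mem_span_singleton_self x)
    simpa using this))
  obtain ⟨C, _, φ, q, hflat, hqp, h0⟩ := h ⟨p, hp.isPrime⟩
  obtain ⟨a, ha, haq⟩ := exists_mul_eq_zero_of_flat φ hflat h0 q.asIdeal
  have hap : a ∈ p := hann (Submodule.mem_annihilator.2 fun n hn => by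
    obtain ⟨c, rfl⟩ := Ideal.mem_span_singleton'.1 hn
    rw [smul_eq_mul, mul_left_comm, ha, mul_zero])
  exact haq (show a ∈ (PrimeSpectrum.comap φ q).asIdeal from
    (congrArg PrimeSpectrum.asIdeal hqp).symm ▸ hap)

theorem ker_appTop_quotMap {B : Type u} [CommRing B] (str : Spec (.of B) ⟶ S) (K : Ideal B) :
    RingHom.ker (quotMap str K).left.appTop.hom = K.comap (Scheme.ΓSpecIso (.of B)).hom.hom := by
  ext z
  have h := congr($(Scheme.ΓSpecIso_naturality (CommRingCat.ofHom (Ideal.Quotient.mk K))).hom z)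
  simp only [CommRingCat.hom_comp, RingHom.comp_apply, CommRingCat.hom_ofHom] at h
  rw [Ideal.mem_comap, RingHom.mem_ker, ← Ideal.Quotient.eq_zero_iff_mem]
  refine ⟨fun hz => h.symm.trans ((congrArg _ hz).trans (map_zero _)), fun hz => ?_⟩
  apply (ConcreteCategory.bijective_of_isIso (Scheme.ΓSpecIso (CommRingCat.of (B ⧸ K))).hom).1
  rw [map_zero]
  exact h.trans hz

variable {i : Z ⟶ U} {j : Z ⟶ Z₁} {k : Z₁ ⟶ U} (hN : IsInfNbhd 1 i j k) (hU : IsAlgSpace U)

include hN in
theorem exists_chart_ideal {C₀ : Type u} [CommRing C₀] {str₀ : Spec (.of C₀) ⟶ S}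
    {c₀ : (yon S).obj (Over.mk str₀) ⟶ U} (hc : RepWith @Etale c₀) :
    ∃ (I : Ideal C₀) (t : (yon S).obj (quotPt str₀ I) ⟶ Z)
      (t₁ : (yon S).obj (quotPt str₀ (I ^ 2)) ⟶ Z₁),
      IsPullback t ((yon S).map (quotMap str₀ I)) i c₀ ∧
      IsPullback t₁ ((yon S).map (quotMap str₀ (I ^ 2))) k c₀ := by
  obtain ⟨I, t, pb⟩ := exists_quotPt_pullback hN.2.1 c₀
  obtain ⟨N, t₁, pb₁⟩ := exists_quotPt_pullback hN.2.2.1 c₀
  have : IsAffine (Over.mk str₀).left := inferInstanceAs (IsAffine (Spec (CommRingCat.of C₀)))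
  have e := hN.2.2.2 c₀ t (quotMap str₀ I) t₁ (quotMap str₀ N) this hc pb pb₁
  have : IsClosedImmersion (quotMap str₀ I).left :=
    IsClosedImmersion.spec_of_surjective _ Ideal.Quotient.mk_surjective
  have : IsClosedImmersion (quotMap str₀ N).left :=
    IsClosedImmersion.spec_of_surjective _ Ideal.Quotient.mk_surjective
  have e' := congrArg (fun J => J.ideal ⟨⊤, isAffineOpen_top _⟩) e
  simp only [Scheme.IdealSheafData.ideal_pow, Pi.pow_apply, Scheme.Hom.ker_apply] at e'
  have e'' : RingHom.ker (quotMap str₀ N).left.appTop.hom =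
      RingHom.ker (quotMap str₀ I).left.appTop.hom ^ 2 := e'
  rw [ker_appTop_quotMap, ker_appTop_quotMap] at e''
  have hs := (ConcreteCategory.bijective_of_isIso (Scheme.ΓSpecIso (CommRingCat.of C₀)).hom).2
  have h := congrArg (Ideal.map (Scheme.ΓSpecIso (CommRingCat.of C₀)).hom.hom) e''
  rw [Ideal.map_pow, Ideal.map_comap_of_surjective _ hs, Ideal.map_comap_of_surjective _ hs] at h
  obtain rfl : N = I ^ 2 := h
  exact ⟨I, t, t₁, pb, pb₁⟩

/-- The map of spectra of quotients induced by a ring map. -/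
theorem exists_quotMap_comp {B C : Type u} [CommRing B] [CommRing C] {str : Spec (.of B) ⟶ S}
    {str' : Spec (.of C) ⟶ S} {φ : B →+* C} {g : Over.mk str' ⟶ Over.mk str}
    (hg : g.left = Spec.map (CommRingCat.ofHom φ)) {K : Ideal B} {L : Ideal C} (h : K ≤ L.comap φ) :
    ∃ ζ : quotPt str' L ⟶ quotPt str K, ζ ≫ quotMap str K = quotMap str' L ≫ g := by
  have hw : Spec.map (CommRingCat.ofHom φ) ≫ str = str' := hg ▸ Over.w g
  refine ⟨Over.homMk (Spec.map (CommRingCat.ofHom (Ideal.quotientMap L φ h))) ?_, ?_⟩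
  · dsimp
    rw [← hw, ← Category.assoc, ← Category.assoc, ← Spec.map_comp, ← Spec.map_comp]
    rfl
  · refine Over.OverMorphism.ext ?_
    simp only [Over.comp_left, Over.homMk_left, hg, ← Spec.map_comp]
    rfl

include hN hU in
theorem surjective_map_of_isInfNbhd : Function.Surjective (Points.map j) := by
  intro x
  obtain ⟨W, b, hb, hbs⟩ := hU.atlas
  obtain ⟨w, hw⟩ := surjective_map_of_repWith le_rfl hbs (Points.map k x)
  obtain ⟨w, rfl⟩ := (Points.schemeEquiv W).surjective w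
  obtain ⟨C₀, str₀, e, z, he, hz, -⟩ := exists_piece W w ⊤ trivial
  have hc : RepWith @Etale ((yon S).map e ≫ b) :=
    repWith_comp ((repWith_yon_map_iff _ _).2 (inferInstanceAs (Etale e.left))) hb
  obtain ⟨I, t, t₁, pb, pb₁⟩ := exists_chart_ideal hN hc
  have hzx : Points.map k x = Points.map ((yon S).map e ≫ b) (Points.ofScheme _ z) := by
    rw [← hw, ← Points.ofPt_eq_map_ofScheme, ofPt_map, Points.ofPt_eq_map_ofScheme, hz]
    rfl
  obtain ⟨p, -, hp₂⟩ := exists_point_of_isPullback pb₁ x (Points.ofScheme _ z) hzx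
  obtain ⟨p, rfl⟩ := (Points.schemeEquiv _).surjective p
  have hzp : (quotMap str₀ (I ^ 2)).left p = z := by
    apply (Points.schemeEquiv _).injective
    refine Eq.trans ?_ hp₂
    show Points.ofScheme _ _ = Points.map _ (Points.ofScheme _ p)
    rw [← Points.ofPt_eq_map_ofScheme, ← Category.comp_id ((yon S).map (quotMap str₀ (I ^ 2))), ofPt_map,
      Points.ofPt_eq_map_ofScheme, Points.map_id]
  obtain ⟨y, hy⟩ : z ∈ Set.range (quotMap str₀ I).left := by
    have hr : z ∈ Set.range (PrimeSpectrum.comap (Ideal.Quotient.mk (I ^ 2))) := ⟨p, hzp⟩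
    show z ∈ Set.range (PrimeSpectrum.comap (Ideal.Quotient.mk I))
    rw [range_comap_of_surjective _ _ Ideal.Quotient.mk_surjective, Ideal.mk_ker] at hr ⊢
    intro x hx
    exact z.2.mem_of_pow_mem 2 (hr (Ideal.pow_mem_pow hx 2))
  have := mono_of_repWith (fun _ _ f (_ : IsClosedImmersion f) => inferInstanceAs (Mono f)) hN.2.2.1
  refine ⟨Points.map t (Points.ofScheme _ y), injective_map_of_mono k ?_⟩
  rw [hzx, ← Points.map_comp, hN.1, ← Points.map_comp, pb.w, ← Points.ofPt_eq_map_ofScheme, ofPt_map, hy,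
    Points.ofPt_eq_map_ofScheme]

include hN hU in
/-- The first order neighbourhood is a first order thickening. -/
theorem isFOThickMor_of_isInfNbhd : IsFOThickMor j := by
  have := mono_of_repWith (fun _ _ f (_ : IsClosedImmersion f) => inferInstanceAs (Mono f)) hN.2.2.1
  have sqj : IsPullback (𝟙 Z) j i k := ⟨⟨by rw [Category.id_comp, hN.1]⟩,
    ⟨PullbackCone.IsLimit.mk _ (fun c => c.fst) (fun c => Category.comp_id _)
      (fun c => (cancel_mono k).1 (by rw [Category.assoc, hN.1, c.condition]))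
      (fun c m h₁ _ => by simpa using h₁)⟩⟩
  have hjc : RepWith @IsClosedImmersion j := repWith_of_isPullback sqj hN.2.1
  have hjs : RepWith @Surjective j := repWith_surjective_of_map hjc.1 (surjective_map_of_isInfNbhd hN hU)
  refine isFOThickMor_of_good ⟨hjc.1, fun _ _ _ _ _ pb => ⟨hjc.2 _ _ _ pb, hjs.2 _ _ _ pb⟩⟩ ?_
  intro W c _ B str e _
  generalize (yon S).map e ≫ c = c'
  obtain ⟨K, t, pbK⟩ := exists_quotPt_pullback hjc c'
  refine ⟨K, t, ?_, pbK⟩
  have pbi := pbK.paste_horiz sqj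
  rw [Category.comp_id] at pbi
  rw [eq_bot_iff, pow_two, Ideal.mul_le]
  intro x hx y hy
  rw [Ideal.mem_bot]
  refine eq_zero_of_charts fun p => ?_
  obtain ⟨C₀, C, str₀, c₀, φ, ψ, strC, g, m, q, hc₀, hflat, hg, hm, hgm, hq⟩ :=
    exists_chart_at hU (c' ≫ k) p
  obtain ⟨I, t₀, t₁, pb₀, pb₁⟩ := exists_chart_ideal hN hc₀
  refine ⟨C, inferInstance, φ, q, hflat, hq, ?_⟩
  -- the square of the ideal dies
  have hN0 : I ^ 2 ≤ (⊥ : Ideal C).comap ψ := by
    obtain ⟨ζ, hζ⟩ := (yon S).map_surjective (pb₁.lift ((yon S).map (quotMap strC ⊥ ≫ g) ≫ c')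
      ((yon S).map (quotMap strC ⊥ ≫ m)) (by
        rw [Functor.map_comp, Functor.map_comp, Category.assoc, Category.assoc, Category.assoc, hgm]))
    exact le_comap_of_quotMap hm ζ ((yon S).map_injective (by rw [Functor.map_comp, hζ, pb₁.lift_snd]))
  obtain ⟨ξ, hξ⟩ := exists_quotMap_comp hm (K := I) (L := I.map ψ) Ideal.le_comap_map
  have hK : K ≤ (I.map ψ).comap φ := by
    obtain ⟨ζ, hζ⟩ := (yon S).map_surjective (pbi.lift ((yon S).map ξ ≫ t₀)
      ((yon S).map (quotMap strC (I.map ψ) ≫ g)) (by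
        rw [Category.assoc, pb₀.w, ← Category.assoc, ← Functor.map_comp, hξ, Functor.map_comp,
          Functor.map_comp, Category.assoc, Category.assoc, hgm]))
    exact le_comap_of_quotMap hg ζ ((yon S).map_injective (by rw [Functor.map_comp, hζ, pbi.lift_snd]))
  have h := Ideal.mul_mem_mul (Ideal.mem_comap.1 (hK hx)) (Ideal.mem_comap.1 (hK hy))
  rw [← map_mul, ← pow_two, ← Ideal.map_pow] at h
  exact Ideal.mem_bot.1 ((Ideal.map_le_iff_le_comap.2 hN0) h)

include hN hU in
/-- A map from an affine scheme which maps a closed subscheme of square zero ideal into `Z` factors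
through the first order neighbourhood. -/
theorem exists_factor_of_isInfNbhd {B : Type u} [CommRing B] {str : Spec (.of B) ⟶ S}
    (c : (yon S).obj (Over.mk str) ⟶ U) {K : Ideal B} (hK : K ^ 2 = ⊥)
    (a : (yon S).obj (quotPt str K) ⟶ Z) (ha : a ≫ i = (yon S).map (quotMap str K) ≫ c) :
    ∃ m : (yon S).obj (Over.mk str) ⟶ Z₁, m ≫ k = c := by
  obtain ⟨K₁, t, pbK⟩ := exists_quotPt_pullback hN.2.2.1 c
  have h1 : K₁ = ⊥ := by
    rw [eq_bot_iff]
    intro x hx
    rw [Ideal.mem_bot]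
    refine eq_zero_of_charts fun p => ?_
    obtain ⟨C₀, C, str₀, c₀, φ, ψ, strC, g, m, q, hc₀, hflat, hg, hm, hgm, hq⟩ := exists_chart_at hU c p
    obtain ⟨I, t₀, t₁, pb₀, pb₁⟩ := exists_chart_ideal hN hc₀
    refine ⟨C, inferInstance, φ, q, hflat, hq, ?_⟩
    obtain ⟨ξ, hξ⟩ := exists_quotMap_comp hg (K := K) (L := K.map φ) Ideal.le_comap_map
    have hI : I ≤ (K.map φ).comap ψ := by
      obtain ⟨ζ, hζ⟩ := (yon S).map_surjective (pb₀.lift ((yon S).map ξ ≫ a)
        ((yon S).map (quotMap strC (K.map φ) ≫ m)) (by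
          rw [Category.assoc, ha, ← Category.assoc, ← Functor.map_comp, hξ, Functor.map_comp,
            Functor.map_comp, Category.assoc, Category.assoc, hgm]))
      exact le_comap_of_quotMap hm ζ ((yon S).map_injective (by rw [Functor.map_comp, hζ, pb₀.lift_snd]))
    obtain ⟨ξ', hξ'⟩ := exists_quotMap_comp hm (K := I ^ 2) (L := (I ^ 2).map ψ) Ideal.le_comap_map
    have hK₁ : K₁ ≤ ((I ^ 2).map ψ).comap φ := by
      obtain ⟨ζ, hζ⟩ := (yon S).map_surjective (pbK.lift ((yon S).map ξ' ≫ t₁)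
        ((yon S).map (quotMap strC ((I ^ 2).map ψ) ≫ g)) (by
          rw [Category.assoc, pb₁.w, ← Category.assoc, ← Functor.map_comp, hξ', Functor.map_comp,
            Functor.map_comp, Category.assoc, Category.assoc, hgm]))
      exact le_comap_of_quotMap hg ζ ((yon S).map_injective (by rw [Functor.map_comp, hζ, pbK.lift_snd]))
    have hle : (I ^ 2).map ψ ≤ ⊥ := by
      rw [Ideal.map_pow]
      refine (Ideal.pow_right_mono (Ideal.map_le_iff_le_comap.2 hI) 2).trans ?_
      rw [← Ideal.map_pow, hK, Ideal.map_bot]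
    exact Ideal.mem_bot.1 (hle (Ideal.mem_comap.1 (hK₁ hx)))
  subst h1
  let r : Over.mk str ⟶ quotPt str (⊥ : Ideal B) :=
    Over.homMk (Spec.map (CommRingCat.ofHom (Ideal.Quotient.lift ⊥ (RingHom.id B) fun z hz => hz))) (by
      dsimp
      rw [← Category.assoc, ← Spec.map_comp]
      exact (congrArg (· ≫ str) (Spec.map_id (CommRingCat.of B))).trans (Category.id_comp str))
  have hr : r ≫ quotMap str ⊥ = 𝟙 _ := Over.OverMorphism.ext (by
    simp only [Over.comp_left, Over.homMk_left, ← Spec.map_comp, r]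
    exact Spec.map_id (CommRingCat.of B))
  exact ⟨(yon S).map r ≫ t, by rw [Category.assoc, pbK.w, ← Category.assoc, ← Functor.map_comp, hr,
    CategoryTheory.Functor.map_id, Category.id_comp]⟩

end Groth.Agent.H13Inf
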