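import Groth.Agent.H13Inf.Thick

/-!
Lifting problems along first order thickenings of algebraic spaces can be solved on affine etale
neighbourhoods.
-/

universe u

open CategoryTheory CategoryTheory.Limits AlgebraicGeometry Opposite
open AlgSp Groth.Agent.H12AlgSp

namespace Groth.Agent.H13Inf

variable {S : Scheme.{u}} {F G Tt T' : Sp S} {f : F ⟶ G} {j : Tt ⟶ T'} {top : Tt ⟶ F} {bot : T' ⟶ G}

theorem repWith_etale_precomp {W W' : Over S} {c : (yon S).obj W ⟶ T'} (hc : RepWith @Etale c)
    (g : W' ⟶ W) [IsOpenImmersion g.left] : RepWith @Etale ((yon S).map g ≫ c) :=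
  repWith_comp ((repWith_yon_map_iff _ _).2 (inferInstanceAs (Etale g.left))) hc

theorem IsLift.unique_of_local
    (H : ∀ (W : Over S), IsAffine W.left → ∀ c : (yon S).obj W ⟶ T', RepWith @Etale c →
      ∀ m m', IsLift f j top bot c m → IsLift f j top bot c m' → m = m')
    {W : Over S} {c : (yon S).obj W ⟶ T'} (hc : RepWith @Etale c) {m m' : (yon S).obj W ⟶ F}
    (hm : IsLift f j top bot c m) (hm' : IsLift f j top bot c m') : m = m' := by
  obtain ⟨κ, B, str, e, he, hcov, -⟩ := exists_affine_pieces W
  refine H13AlgSp.hom_ext_of_cover e hcov fun i => ?_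
  have : IsOpenImmersion (e i).left := he i
  exact H (Over.mk (str i)) (inferInstanceAs (IsAffine (Spec (B i)))) _ (repWith_etale_precomp hc (e i))
    _ _ (hm.precomp (e i)) (hm'.precomp (e i))

theorem exists_isLift_of_local
    (H : ∀ (W : Over S), IsAffine W.left → ∀ c : (yon S).obj W ⟶ T', RepWith @Etale c →
      ∃! m, IsLift f j top bot c m)
    {W : Over S} {c : (yon S).obj W ⟶ T'} (hc : RepWith @Etale c) :
    ∃ m, IsLift f j top bot c m := by
  obtain ⟨κ, B, str, e, he, hcov, hrange⟩ := exists_affine_pieces W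
  have hu : ∀ (W : Over S) (c : (yon S).obj W ⟶ T'), RepWith @Etale c → ∀ m m',
      IsLift f j top bot c m → IsLift f j top bot c m' → m = m' := fun W c hc m m' hm hm' =>
    IsLift.unique_of_local (fun V hV d hd n n' hn hn' => (H V hV d hd).unique hn hn') hc hm hm'
  have hoi : ∀ i, IsOpenImmersion (e i).left := he
  have hex : ∀ i, ∃ l, IsLift f j top bot ((yon S).map (e i) ≫ c) l := fun i =>
    (H _ (inferInstanceAs (IsAffine (Spec (B i)))) _ (repWith_etale_precomp hc (e i))).exists
  choose l hl using hex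
  obtain ⟨m, hm⟩ := exists_glue e hcov l fun i k Z gi gk h => by
    have sqO := IsPullback.of_hasPullback (e i) (e k)
    have hp : IsOpenImmersion (pullback.fst (e i) (e k)).left :=
      MorphismProperty.of_isPullback (sqO.map (Over.forget S)).flip (he k)
    rw [← sqO.lift_fst gi gk h, Functor.map_comp, Category.assoc]
    conv_rhs => rw [← sqO.lift_snd gi gk h, Functor.map_comp, Category.assoc]
    congr 1
    refine hu _ _ (repWith_etale_precomp (repWith_etale_precomp hc (e i)) (pullback.fst (e i) (e k)))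
      _ _ ((hl i).precomp _) ?_
    have := (hl k).precomp (pullback.snd (e i) (e k))
    rwa [← Category.assoc, ← Functor.map_comp, ← sqO.w, Functor.map_comp, Category.assoc] at this
  refine ⟨m, H13AlgSp.hom_ext_of_cover e hcov fun i => ?_, fun Z k k0 hk => ?_⟩
  · rw [← Category.assoc, hm i, (hl i).w, Category.assoc]
  · have hexi : ∀ i, IsPullback (pullback.fst k (e i)) (pullback.snd k (e i)) k (e i) :=
      fun i => IsPullback.of_hasPullback _ _
    refine H13AlgSp.hom_ext_of_cover (fun i => pullback.fst k (e i)) ?_ fun i => ?_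
    · have hoi' : ∀ i, IsOpenImmersion (pullback.fst k (e i)).left := fun i =>
        MorphismProperty.of_isPullback ((hexi i).map (Over.forget S)).flip (he i)
      refine H13AlgSp.ofArrows_mem_J _ (fun i => inferInstance) (fun i => inferInstance) (fun z => ?_)
      obtain ⟨i, y, hy⟩ := hrange (k.left z)
      obtain ⟨p, hp, -⟩ := Scheme.exists_preimage_of_isPullback
        ((hexi i).map (Over.forget S)) z y hy.symm
      exact ⟨i, p, hp⟩
    · rw [← Category.assoc, ← Functor.map_comp, (hexi i).w, Functor.map_comp, Category.assoc, hm i]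
      rw [(hl i).restrict _ (pullback.snd k (e i)) ((yon S).map (pullback.fst k (e i)) ≫ k0)]
      · rw [Category.assoc]
      · rw [← Category.assoc, ← Functor.map_comp, ← (hexi i).w, Functor.map_comp, Category.assoc,
          hk, Category.assoc]

/-- Dotted arrows along a first order thickening of algebraic spaces, from unique dotted arrows on
affine etale neighbourhoods. -/
theorem existsUnique_lift_of_local (hT : IsAlgSpace T')
    (H : ∀ (W : Over S), IsAffine W.left → ∀ c : (yon S).obj W ⟶ T', RepWith @Etale c →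
      ∃! m, IsLift f j top bot c m) :
    ∃! l : T' ⟶ F, j ≫ l = top ∧ l ≫ f = bot := by
  obtain ⟨V, b, hb, hbs⟩ := hT.atlas
  have := epi_of_etale_surjective hb hbs
  have hu : ∀ (W : Over S) (c : (yon S).obj W ⟶ T'), RepWith @Etale c → ∀ m m',
      IsLift f j top bot c m → IsLift f j top bot c m' → m = m' := fun W c hc m m' hm hm' =>
    IsLift.unique_of_local (fun V hV d hd n n' hn hn' => (H V hV d hd).unique hn hn') hc hm hm'
  obtain ⟨m, hm⟩ := exists_isLift_of_local H hb
  obtain ⟨R, r₂, r₁', pbR⟩ := hb.1 b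
  obtain ⟨r₁, rfl⟩ := (yon S).map_surjective r₁'
  have e : (yon S).map r₁ ≫ m = (yon S).map r₂ ≫ m := by
    refine hu _ _ (repWith_comp (repWith_of_isPullback pbR.flip hb) hb) _ _ (hm.precomp r₁) ?_
    rw [pbR.w]; exact hm.precomp r₂
  have : EffectiveEpi b := by
    have := IsRegularEpiCategory.regularEpiOfEpi b
    infer_instance
  let l := EffectiveEpi.desc b m fun g₁ g₂ hg => by
    rw [← pbR.lift_fst g₁ g₂ hg]
    conv_rhs => rw [← pbR.lift_snd g₁ g₂ hg]
    rw [Category.assoc, Category.assoc, e]
  have hl : b ≫ l = m := EffectiveEpi.fac _ _ _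
  refine ⟨l, ⟨hom_ext_yon fun Z k0 => ?_, by rw [← cancel_epi b, ← Category.assoc, hl, hm.w]⟩,
    fun l' hl' => (cancel_epi b).1 ((hu _ _ hb _ _ (isLift_of_hom b hl'.1 hl'.2) hm).trans hl.symm)⟩
  obtain ⟨W, v, k', sq⟩ := hb.1 (k0 ≫ j)
  have hve : Etale v.left := hb.2 _ k' v sq
  have hvs : Surjective v.left := hbs.2 _ k' v sq
  obtain ⟨k, rfl⟩ := (yon S).map_surjective k'
  refine H13AlgSp.hom_ext_of_cover (fun _ : PUnit.{u+1} => v) (H13AlgSp.ofArrows_mem_J _
    (fun _ => inferInstance) (fun _ => inferInstance) (fun t => ⟨⟨⟩, v.left.surjective t⟩))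
    fun _ => ?_
  have h := hm.restrict W k ((yon S).map v ≫ k0) (by rw [sq.w, Category.assoc])
  rw [← hl, ← Category.assoc, sq.w, Category.assoc, Category.assoc, Category.assoc] at h
  exact h

/-- The base change of a first order thickening along an etale morphism from a scheme. -/
theorem exists_thick_pullback (hj : IsFOThickMor j) {W : Over S} {c : (yon S).obj W ⟶ T'}
    (hc : RepWith @Etale c) : ∃ (W₀ : Over S) (q : W₀ ⟶ W) (t : (yon S).obj W₀ ⟶ Tt),
      IsPullback t ((yon S).map q) j c ∧ IsFOThickMor ((yon S).map q) := by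
  obtain ⟨W₀, q, t, pb⟩ := hj.1.1 c
  exact ⟨W₀, q, t, pb, repWith_of_isPullback pb hj.1, fun V U d fst snd hV hd pb' =>
    hj.2 _ _ _ hV (repWith_comp hd hc) (pb'.paste_horiz pb)⟩

end Groth.Agent.H13Inf
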