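import Groth.Agent.H13Inf.SmoothApps
import Groth.Agent.H13Inf.Local
import Groth.Agent.H12AlgSp.OpenSub
import Groth.Agent.H12AlgSp.RelDim
import Groth.Agent.H12AlgSp.RelDimApps
import Groth.Agent.H12AlgSp.LocPCancel
import Groth.Agent.S1488
import Mathlib.RingTheory.Smooth.Locus
import Mathlib.AlgebraicGeometry.Morphisms.Smooth

/-!
Lifting along surjections of local rings, and smoothness at a point.
-/

universe u

open CategoryTheory CategoryTheory.Limits AlgebraicGeometry Opposite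
open AlgSp Groth.Agent.H12AlgSp

namespace Groth.Agent.H13Inf

variable {S : Scheme.{u}} {X Y : Sp S}

/-- The morphism over `S` given by a ring map. -/
noncomputable abbrev specOver {B' B : Type u} [CommRing B'] [CommRing B] (π : B' →+* B)
    (s : Spec (CommRingCat.of B') ⟶ S) :
    Over.mk (Spec.map (CommRingCat.ofHom π) ≫ s) ⟶ Over.mk s :=
  Over.homMk (Spec.map (CommRingCat.ofHom π))

theorem exists_quot_iso {B' B : Type u} [CommRing B'] [CommRing B] (π : B' →+* B) (hπ : Function.Surjective π)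
    (s : Spec (CommRingCat.of B') ⟶ S) :
    ∃ (δ : quotPt s (RingHom.ker π) ⟶ Over.mk (Spec.map (CommRingCat.ofHom π) ≫ s))
      (ρ : Over.mk (Spec.map (CommRingCat.ofHom π) ≫ s) ⟶ quotPt s (RingHom.ker π)),
      δ ≫ specOver π s = quotMap s (RingHom.ker π) ∧ ρ ≫ δ = 𝟙 _ ∧
        ρ ≫ quotMap s (RingHom.ker π) = specOver π s := by
  let e := RingHom.quotientKerEquivOfSurjective hπ
  have h1 : e.symm.toRingHom.comp π = Ideal.Quotient.mk (RingHom.ker π) :=
    RingHom.ext fun x => e.symm_apply_apply (Ideal.Quotient.mk _ x)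
  have h2 : e.toRingHom.comp (Ideal.Quotient.mk (RingHom.ker π)) = π := RingHom.ext fun x => rfl
  refine ⟨Over.homMk (Spec.map (CommRingCat.ofHom e.symm.toRingHom)) ?_,
    Over.homMk (Spec.map (CommRingCat.ofHom e.toRingHom)) ?_, ?_, ?_, ?_⟩
  · simp only [Over.mk_hom]
    rw [← Category.assoc, ← Spec.map_comp, ← CommRingCat.ofHom_comp, h1]
  · simp only [Over.mk_hom]
    rw [← Category.assoc, ← Spec.map_comp, ← CommRingCat.ofHom_comp, h2]
  · apply Over.OverMorphism.ext
    simp only [Over.comp_left, Over.homMk_left, ← Spec.map_comp, ← CommRingCat.ofHom_comp, h1]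
  · apply Over.OverMorphism.ext
    simp only [Over.comp_left, Over.homMk_left, Over.id_left, ← Spec.map_comp, ← CommRingCat.ofHom_comp]
    rw [show e.toRingHom.comp e.symm.toRingHom = RingHom.id B from RingHom.ext fun x => e.apply_symm_apply x]
    exact Spec.map_id _
  · apply Over.OverMorphism.ext
    simp only [Over.comp_left, Over.homMk_left, ← Spec.map_comp, ← CommRingCat.ofHom_comp, h2]

/-- A formally smooth morphism lifts along surjections with square zero kernel. -/
theorem exists_lift_surj {f : X ⟶ Y} (hf : IsFormallySmoothMor f) {B' B : Type u} [CommRing B'] [CommRing B]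
    {π : B' →+* B} (hπ : Function.Surjective π) (h2 : RingHom.ker π ^ 2 = ⊥)
    {s : Spec (CommRingCat.of B') ⟶ S}
    {α : (yon S).obj (Over.mk (Spec.map (CommRingCat.ofHom π) ≫ s)) ⟶ X} {β : (yon S).obj (Over.mk s) ⟶ Y}
    (w : α ≫ f = (yon S).map (specOver π s) ≫ β) :
    ∃ γ, (yon S).map (specOver π s) ≫ γ = α ∧ γ ≫ f = β := by
  obtain ⟨δ, ρ, h1, h3, h4⟩ := exists_quot_iso π hπ s
  obtain ⟨l, hl₁, hl₂⟩ := hf ⟨B', RingHom.ker π, h2, s, (yon S).map δ ≫ α, β, by
    rw [Category.assoc, w, ← Category.assoc, ← Functor.map_comp, h1]⟩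
  refine ⟨l, ?_, hl₂⟩
  replace hl₁ : (yon S).map (quotMap s (RingHom.ker π)) ≫ l = (yon S).map δ ≫ α := hl₁
  rw [← h4, Functor.map_comp, Category.assoc, hl₁, ← Category.assoc, ← Functor.map_comp, h3,
    CategoryTheory.Functor.map_id, Category.id_comp]

/-- Lifts of a formally unramified morphism along surjections with square zero kernel are unique. -/
theorem hom_ext_surj {f : X ⟶ Y} (hf : IsFormallyUnramifiedMor f) {B' B : Type u} [CommRing B'] [CommRing B]
    {π : B' →+* B} (hπ : Function.Surjective π) (h2 : RingHom.ker π ^ 2 = ⊥)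
    {s : Spec (CommRingCat.of B') ⟶ S} {γ γ' : (yon S).obj (Over.mk s) ⟶ X}
    (e₁ : (yon S).map (specOver π s) ≫ γ = (yon S).map (specOver π s) ≫ γ') (e₂ : γ ≫ f = γ' ≫ f) :
    γ = γ' := by
  obtain ⟨δ, ρ, h1, h3, h4⟩ := exists_quot_iso π hπ s
  have e : (yon S).map (quotMap s (RingHom.ker π)) ≫ γ = (yon S).map (quotMap s (RingHom.ker π)) ≫ γ' := by
    rw [← h1, Functor.map_comp, Category.assoc, Category.assoc, e₁]
  exact hf ⟨B', RingHom.ker π, h2, s, (yon S).map (quotMap s (RingHom.ker π)) ≫ γ, γ ≫ f, Category.assoc _ _ _⟩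
    γ γ' rfl rfl e.symm e₂.symm

/-- A morphism smooth at a point lifts along local surjections with square zero kernel centred there. -/
theorem exists_lift_of_smoothAt (hX : IsAlgSpace X) {f : X ⟶ Y} {x : Points X}
    (hx : HasAtMor (fun U _ h u => ∃ W : U.Opens, u ∈ W ∧ Smooth (W.ι ≫ h)) f x)
    {B' B : Type u} [CommRing B'] [CommRing B] [IsLocalRing B] {π : B' →+* B} (hπ : Function.Surjective π)
    (h2 : RingHom.ker π ^ 2 = ⊥) {s : Spec (CommRingCat.of B') ⟶ S}
    {α : (yon S).obj (Over.mk (Spec.map (CommRingCat.ofHom π) ≫ s)) ⟶ X} {β : (yon S).obj (Over.mk s) ⟶ Y}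
    (hα : Points.ofPt α (IsLocalRing.closedPoint B) = x)
    (w : α ≫ f = (yon S).map (specOver π s) ≫ β) :
    ∃ γ, (yon S).map (specOver π s) ≫ γ = α ∧ γ ≫ f = β := by
  obtain ⟨U, V, a, b, h, u, ha, hb, wh, hu, W, huW, hW⟩ := hx
  let i : Over.mk (W.ι ≫ U.hom) ⟶ U := Over.homMk W.ι rfl
  have : IsOpenImmersion i.left := inferInstanceAs (IsOpenImmersion W.ι)
  have ha' : RepWith @Etale ((yon S).map i ≫ a) := repWith_etale_precomp ha i
  have hWo : IsOpen (Set.range (Points.ofPt ((yon S).map i ≫ a))) :=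
    (isOpenMap_ofPt_of_repWith etale_le_universallyOpen ha').isOpen_range
  obtain ⟨X₀, j, hX₀, hj, hjr⟩ := exists_open_subspace hX hWo
  have := H12AlgSp.mono_of_openImmersion hj
  obtain ⟨a₀, ha₀⟩ := exists_factor_open hj ((yon S).map i ≫ a) (by
    rw [range_map_yon, hjr])
  have hae : RepWith @Etale a₀ := repWith_of_isPullback
    (IsPullback.of_horiz_isIso_mono (fst := 𝟙 _) (snd := a₀) (f := (yon S).map i ≫ a) (g := j)
      ⟨by rw [Category.id_comp, ha₀]⟩) ha'
  have has : RepWith @Surjective a₀ := repWith_surjective_of_map hae.1 fun p => by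
    obtain ⟨t, ht⟩ := hjr.le ⟨p, rfl⟩
    refine ⟨Points.ofScheme _ t, H12AlgSp.injective_map_of_mono j ?_⟩
    rw [← Points.map_comp, ha₀, ← Points.ofPt_eq_map_ofScheme, ht]
  have hfs : IsFormallySmoothMor (j ≫ f) :=
    SmoothChart.isFormallySmoothMor_of_chart hae has hb (h := i ≫ h) (by
      rw [reassoc_of% ha₀, wh, Functor.map_comp, Category.assoc])
      ((S1488.result (i ≫ h).left).1 (by exact hW)).2
  obtain ⟨α₀, hα₀⟩ := exists_factor_open hj α (by
    rw [range_map_yon, hjr]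
    rintro _ ⟨t, rfl⟩
    have ho : IsOpen (Points.ofPt α ⁻¹' Set.range (Points.ofPt ((yon S).map i ≫ a))) :=
      Points.isOpen_iff.1 hWo _ _
    exact (IsLocalRing.specializes_closedPoint t).mem_open ho
      (show _ ∈ Set.range _ from ⟨⟨u, huW⟩, (ofPt_map i a _).trans (hu.trans hα.symm)⟩))
  obtain ⟨γ, hγ₁, hγ₂⟩ := exists_lift_surj hfs hπ h2 (α := α₀) (β := β) (by rw [reassoc_of% hα₀, w])
  exact ⟨γ ≫ j, by rw [reassoc_of% hγ₁, hα₀], by rw [Category.assoc, hγ₂]⟩

theorem sq_eq_bot_of_small {B' B : Type u} [CommRing B'] [CommRing B] [IsLocalRing B'] [Nontrivial B]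
    {π : B' →+* B}
    (ht : ∃ t : B', RingHom.ker π = Ideal.span {t} ∧ ∀ a ∈ IsLocalRing.maximalIdeal B', a * t = 0) :
    RingHom.ker π ^ 2 = ⊥ := by
  obtain ⟨t, ht, htm⟩ := ht
  rw [ht, Ideal.span_singleton_pow, pow_two, htm t, Ideal.span_singleton_zero]
  exact IsLocalRing.le_maximalIdeal (RingHom.ker_ne_top π)
    (ht ▸ Ideal.mem_span_singleton_self t)

/-- From a lift of a small extension on the spaces, a lift of the coordinate rings of affine charts. -/
theorem exists_ringHom_lift {f : X ⟶ Y} {U V : Over S} {a : (yon S).obj U ⟶ X} {b : (yon S).obj V ⟶ Y}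
    {h : U ⟶ V} (ha : RepWith @Etale a) (hb : RepWith @Etale b) (wh : a ≫ f = (yon S).map h ≫ b)
    {R A : CommRingCat.{u}} {φ : R ⟶ A} (ιU : Spec A ⟶ U.left) [IsOpenImmersion ιU]
    (ιV : Spec R ⟶ V.left) [IsOpenImmersion ιV] (sqφ : ιU ≫ h.left = Spec.map φ ≫ ιV)
    {B' B : Type u} [CommRing B'] [CommRing B] [IsLocalRing B'] [IsLocalRing B] [IsArtinianRing B']
    {π : B' →+* B} (hπ : Function.Surjective π) (h2 : RingHom.ker π ^ 2 = ⊥)
    (r : (R : Type u) →+* B') (g : (A : Type u) →+* B) (hg : g.comp φ.hom = π.comp r)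
    (H : ∀ (s : Spec (CommRingCat.of B') ⟶ S)
      (α : (yon S).obj (Over.mk (Spec.map (CommRingCat.ofHom π) ≫ s)) ⟶ X)
      (β' : Over.mk s ⟶ V), β'.left = Spec.map (CommRingCat.ofHom r) ≫ ιV →
      Points.ofPt α (IsLocalRing.closedPoint B) =
        Points.ofPt a (ιU (Spec.map (CommRingCat.ofHom g) (IsLocalRing.closedPoint B))) →
      α ≫ f = (yon S).map (specOver π s) ≫ (yon S).map β' ≫ b →
      ∃ γ, (yon S).map (specOver π s) ≫ γ = α ∧ γ ≫ f = (yon S).map β' ≫ b) :
    ∃ g' : (A : Type u) →+* B', g'.comp φ.hom = r ∧ π.comp g' = g := by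
  let s : Spec (CommRingCat.of B') ⟶ S := (Spec.map (CommRingCat.ofHom r) ≫ ιV) ≫ V.hom
  let β' : Over.mk s ⟶ V := Over.homMk (Spec.map (CommRingCat.ofHom r) ≫ ιV) rfl
  have hgr : Spec.map (CommRingCat.ofHom g) ≫ Spec.map φ =
      Spec.map (CommRingCat.ofHom π) ≫ Spec.map (CommRingCat.ofHom r) := by
    rw [← Spec.map_comp, ← Spec.map_comp]
    exact congrArg Spec.map (CommRingCat.hom_ext hg)
  let α' : Over.mk (Spec.map (CommRingCat.ofHom π) ≫ s) ⟶ U :=
    Over.homMk (Spec.map (CommRingCat.ofHom g) ≫ ιU) (by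
      simp only [Over.mk_hom, s]
      rw [← Over.w h]
      simp only [Category.assoc]
      rw [reassoc_of% sqφ, reassoc_of% hgr])
  have hαβ : α' ≫ h = specOver π s ≫ β' := Over.OverMorphism.ext (by
    simp only [Over.comp_left, α', β', Over.homMk_left, Category.assoc]
    rw [sqφ, reassoc_of% hgr])
  obtain ⟨γ, hγ₁, hγ₂⟩ := H s ((yon S).map α' ≫ a) β' rfl (ofPt_map α' a _)
    ((Category.assoc _ _ _).trans ((congrArg ((yon S).map α' ≫ ·) wh).trans
      ((Category.assoc _ _ _).symm.trans ((congrArg (· ≫ b) ((Functor.map_comp _ _ _).symm.trans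
        ((congrArg (yon S).map hαβ).trans (Functor.map_comp _ _ _)))).trans (Category.assoc _ _ _)))))
  obtain ⟨l', hl₁, hl₂⟩ := exists_lift_surj (fun sq => (isFormallyEtaleMor_of_etale ha sq).exists) hπ h2
    (α := (yon S).map α') (β := γ) hγ₁.symm
  obtain ⟨l, rfl⟩ := (yon S).map_surjective l'
  have hl : specOver π s ≫ l = α' := (yon S).map_injective (by rw [Functor.map_comp, hl₁])
  have hlh : l ≫ h = β' := by
    apply (yon S).map_injective
    refine hom_ext_surj (formallyUnramified_of_formallyEtale (isFormallyEtaleMor_of_etale hb)) hπ h2 ?_ ?_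
    · rw [← Functor.map_comp, ← Functor.map_comp, reassoc_of% hl, hαβ]
    · rw [Functor.map_comp, Category.assoc, ← wh, reassoc_of% hl₂, hγ₂]
  have hrange : Set.range l.left ⊆ Set.range ιU := by
    rintro _ ⟨t, rfl⟩
    refine ⟨Spec.map (CommRingCat.ofHom g) (IsLocalRing.closedPoint B), ?_⟩
    have e : Spec.map (CommRingCat.ofHom π) ≫ l.left = Spec.map (CommRingCat.ofHom g) ≫ ιU :=
      congrArg CommaMorphism.left hl
    rw [← Scheme.Hom.comp_apply, ← e, Scheme.Hom.comp_apply]
    have : Subsingleton (Spec (CommRingCat.of B')) := inferInstanceAs (Subsingleton (PrimeSpectrum B'))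
    exact congrArg _ (Subsingleton.elim _ _)
  refine ⟨(Spec.preimage (IsOpenImmersion.lift ιU l.left hrange)).hom, ?_, ?_⟩
  · refine congrArg CommRingCat.Hom.hom (Spec.map_injective (a₁ := φ ≫ Spec.preimage (IsOpenImmersion.lift ιU l.left hrange)) (a₂ := CommRingCat.ofHom r) ?_)
    rw [Spec.map_comp, Spec.map_preimage, ← cancel_mono ιV, Category.assoc, ← sqφ,
      IsOpenImmersion.lift_fac_assoc]
    exact congrArg CommaMorphism.left hlh
  · refine congrArg CommRingCat.Hom.hom
      (Spec.map_injective (a₁ := Spec.preimage (IsOpenImmersion.lift ιU l.left hrange) ≫ CommRingCat.ofHom π) (a₂ := CommRingCat.ofHom g) ?_)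
    rw [Spec.map_comp, Spec.map_preimage, ← cancel_mono ιU, Category.assoc, IsOpenImmersion.lift_fac]
    exact congrArg CommaMorphism.left hl

/-- Smoothness of a coordinate ring at a prime gives smoothness near the point. -/
theorem exists_open_smooth {U V : Scheme.{u}} (h : U ⟶ V) {R A : CommRingCat.{u}} [IsNoetherianRing R] {φ : R ⟶ A}
    (ιU : Spec A ⟶ U) [IsOpenImmersion ιU] (ιV : Spec R ⟶ V) [IsOpenImmersion ιV]
    (sqφ : ιU ≫ h = Spec.map φ ≫ ιV) (hφ : φ.hom.FiniteType) (q : PrimeSpectrum A)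
    (hq : letI := φ.hom.toAlgebra; Algebra.IsSmoothAt R q.asIdeal) :
    ∃ W : U.Opens, ιU q ∈ W ∧ Smooth (W.ι ≫ h) := by
  algebraize [φ.hom]
  have : Algebra.FinitePresentation R A := Algebra.FinitePresentation.of_finiteType.1 hφ
  have : Algebra.IsSmoothAt R q.asIdeal := hq
  obtain ⟨d, hd, hsm⟩ := Algebra.IsSmoothAt.exists_notMem_smooth R q.asIdeal
  let loc := Spec.map (CommRingCat.ofHom (algebraMap A (Localization.Away d)))
  have : IsOpenImmersion loc := IsOpenImmersion.of_isLocalization d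
  have hs : Smooth (Spec.map (CommRingCat.ofHom (algebraMap R (Localization.Away d)))) :=
    (HasRingHomProperty.Spec_iff (P := @Smooth)).2 (RingHom.smooth_algebraMap.2 hsm)
  refine ⟨(loc ≫ ιU).opensRange, ?_, ?_⟩
  · obtain ⟨z, hz⟩ : q ∈ Set.range (PrimeSpectrum.comap (algebraMap A (Localization.Away d))) := by
      rw [PrimeSpectrum.localization_away_comap_range (Localization.Away d) d]; exact hd
    exact ⟨z, (Scheme.Hom.comp_apply _ _ _).trans (congrArg ιU hz)⟩
  · rw [← Scheme.Hom.isoOpensRange_inv_comp (loc ≫ ιU)]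
    have : Smooth ((loc ≫ ιU) ≫ h) := by
      rw [Category.assoc, sqφ, ← Category.assoc]
      have e : loc ≫ Spec.map φ = Spec.map (CommRingCat.ofHom (algebraMap R (Localization.Away d))) := by
        rw [← Spec.map_comp]
        congr 1
      rw [e]
      infer_instance
    rw [Category.assoc]
    infer_instance

end Groth.Agent.H13Inf
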