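import Mathlib.RingTheory.Flat.FaithfullyFlat.Algebra
import Groth.Agent.H8Props.FormallySmoothAlg

/-!
A square zero extension which has solvable lifting problems after a faithfully flat extension splits.
-/

set_option autoImplicit false

universe u

open TensorProduct
open Groth.Agent.H8Props.FormallySmoothAlg

namespace Groth.Agent.H13Inf.SmoothAlg

variable {A : Type u} [CommRing A] {I : Ideal A} {B : Type u} [CommRing B] [Algebra A B]
  {π : B →ₐ[A] A ⧸ I}

/-- A square-zero extension with lifting problems solvable after a faithfully flat extension has a section. -/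
theorem exists_section (hI : I ^ 2 = ⊥) (hπ : Function.Surjective π)
    (hK : RingHom.ker π ^ 2 = ⊥) (A' : Type u) [CommRing A'] [Algebra A A'] [Module.FaithfullyFlat A A']
    (H : ∀ (R : Type u) [CommRing R] [Algebra A R] [Algebra A' R] [IsScalarTower A A' R],
      LiftsAt I π R) :
    ∃ σ : B →ₐ[A] A, ∀ x, Ideal.Quotient.mk I (σ x) = π x := by
  classical
  have hπm : ∀ a : A, π (algebraMap A B a) = Ideal.Quotient.mk I a := fun a => π.commutes a
  have hIK : ∀ a ∈ I, algebraMap A B a ∈ RingHom.ker π := fun a ha => by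
    rw [RingHom.mem_ker, hπm]
    exact Ideal.Quotient.eq_zero_iff_mem.mpr ha
  have hKK : ∀ x y, x ∈ RingHom.ker π → y ∈ RingHom.ker π → x * y = 0 := fun x y hx hy => by
    have := Ideal.mul_mem_mul hx hy
    rw [← pow_two, hK] at this
    exact this
  -- the structure map is injective
  have hinj : Function.Injective (algebraMap A B) := by
    rw [injective_iff_map_eq_zero]
    intro a ha
    have haI : a ∈ I := by rw [← Ideal.Quotient.eq_zero_iff_mem, ← hπm, ha, map_zero]
    apply FaithfulSMul.algebraMap_injective A A'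
    rw [map_zero]
    let J := I.map (algebraMap A A')
    have hJ : J ^ 2 = ⊥ := by rw [← Ideal.map_pow, hI, Ideal.map_bot]
    let ε : (A ⧸ I) →ₐ[A] A' ⧸ J := Ideal.Quotient.liftₐ I (Algebra.ofId A (A' ⧸ J)) fun b hb => by
      show algebraMap A (A' ⧸ J) b = 0
      rw [← Ideal.Quotient.mk_algebraMap, Ideal.Quotient.eq_zero_iff_mem]
      exact Ideal.mem_map_of_mem _ hb
    obtain ⟨ψ, -⟩ := H A' J J le_rfl hJ ε (ε.comp π) fun x => by
        obtain ⟨r, hr⟩ := Ideal.Quotient.mk_surjective ((ε.comp π) x)
        rw [← hr, Ideal.Quotient.factor_mk]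
        exact hr
    rw [← ψ.commutes, ha, map_zero]
  -- the module `P = B / A` and the universal derivation
  let M1 : Submodule A B := LinearMap.range (Algebra.linearMap A B)
  let P := B ⧸ M1
  let D : B →ₗ[A] P := M1.mkQ
  have hD0 : ∀ a, D (algebraMap A B a) = 0 := fun a =>
    (Submodule.Quotient.mk_eq_zero M1).mpr ⟨a, rfl⟩
  have hsub : ∀ x a, π x = Ideal.Quotient.mk I a → x - algebraMap A B a ∈ RingHom.ker π :=
    fun x a h => by rw [RingHom.mem_ker, map_sub, hπm, h, sub_self]
  have hD : ∀ x y a c, π x = Ideal.Quotient.mk I a → π y = Ideal.Quotient.mk I c →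
      D (x * y) = a • D y + c • D x := by
    intro x y a c hx hy
    have h0 := hKK _ _ (hsub x a hx) (hsub y c hy)
    have h1 : x * y = a • y + c • x - algebraMap A B (a * c) := by
      rw [Algebra.smul_def, Algebra.smul_def, map_mul]; linear_combination h0
    rw [h1, map_sub, map_add, map_smul, map_smul, hD0, sub_zero]
  have htorsP : Module.IsTorsionBySet A P I := by
    rintro p ⟨i, hi⟩
    obtain ⟨x, rfl⟩ := M1.mkQ_surjective p
    obtain ⟨a, ha⟩ := Ideal.Quotient.mk_surjective (π x)
    show i • D x = 0
    have h0 : (i : A) • x = algebraMap A B (i * a) := by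
      rw [Algebra.smul_def, map_mul]
      linear_combination hKK _ _ (hIK i hi) (hsub x a ha.symm)
    rw [← map_smul, h0, hD0]
  letI : Module (A ⧸ I) P := htorsP.module
  have : IsScalarTower A (A ⧸ I) P := htorsP.isScalarTower
  -- `P` is projective over `A/I`
  let T := (A ⧸ I) ⊗[A] A'
  letI : Algebra A' T := Algebra.TensorProduct.rightAlgebra
  have : Module.FaithfullyFlat (A ⧸ I) T := inferInstance
  have : Module.Projective T (T ⊗[A ⧸ I] P) :=
    projective_tensor T D M1.mkQ_surjective (fun x hx => (Submodule.Quotient.mk_eq_zero M1).mp hx) hD0 hD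
      fun M _ _ _ _ _ _ => by
        let g : A' →+* TrivSqZeroExt T M :=
          (TrivSqZeroExt.inlHom T M).comp (Algebra.TensorProduct.includeRight : A' →ₐ[A] T).toRingHom
        letI : Algebra A' (TrivSqZeroExt T M) := g.toAlgebra
        haveI : IsScalarTower A A' (TrivSqZeroExt T M) := IsScalarTower.of_algebraMap_eq fun a => by
          show _ = g (algebraMap A A' a)
          rw [TrivSqZeroExt.algebraMap_eq_inl']
          exact congrArg _ ((Algebra.TensorProduct.includeRight : A' →ₐ[A] T).commutes a).symm
        exact H _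
  have : Module.Projective (A ⧸ I) P :=
    Groth.Agent.H1CAlg.projective_of_baseChange (A ⧸ I) T P
  -- a section of `ker π → P`
  let K : Submodule A B := (RingHom.ker π).restrictScalars A
  have htorsK : Module.IsTorsionBySet A K I := by
    rintro ⟨k, hk⟩ ⟨i, hi⟩
    refine Subtype.ext ?_
    show (i : A) • k = 0
    rw [Algebra.smul_def]
    exact hKK _ _ (hIK i hi) hk
  letI : Module (A ⧸ I) K := htorsK.module
  have : IsScalarTower A (A ⧸ I) K := htorsK.isScalarTower
  have hsurjA := Ideal.Quotient.mk_surjective (I := I)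
  obtain ⟨t, ht⟩ := Module.projective_lifting_property
    ((D ∘ₗ K.subtype).extendScalarsOfSurjective hsurjA) (LinearMap.id : P →ₗ[A ⧸ I] P) (fun p => by
      obtain ⟨x, rfl⟩ := M1.mkQ_surjective p
      obtain ⟨a, ha⟩ := Ideal.Quotient.mk_surjective (π x)
      refine ⟨⟨x - algebraMap A B a, hsub x a ha.symm⟩, ?_⟩
      show D (x - algebraMap A B a) = D x
      rw [map_sub, hD0, sub_zero])
  have htD : ∀ p, D (t p : B) = p := fun p => DFunLike.congr_fun ht p
  let τ : B → B := fun x => (t (D x) : B)
  have hτker : ∀ x, τ x ∈ RingHom.ker π := fun x => (t (D x)).2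
  have hτsmul : ∀ (a : A) p, ((t (a • p) : K) : B) = algebraMap A B a * t p := fun a p => by
    rw [← algebraMap_smul (A ⧸ I) a p, map_smul, algebraMap_smul, Submodule.coe_smul, Algebra.smul_def]
  let η : B →ₐ[A] B :=
    AlgHom.ofLinearMap
      { toFun := fun x => x - τ x
        map_add' := fun x y => by simp [τ]; abel
        map_smul' := fun a x => by
          show a • x - τ (a • x) = a • (x - τ x)
          simp only [τ]
          rw [map_smul, hτsmul, ← Algebra.smul_def, smul_sub] }
      (by
        show (1 : B) - τ 1 = 1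
        have : D 1 = 0 := by rw [← map_one (algebraMap A B)]; exact hD0 1
        simp [τ, this])
      (fun x y => by
        obtain ⟨a, ha⟩ := Ideal.Quotient.mk_surjective (π x)
        obtain ⟨c, hc⟩ := Ideal.Quotient.mk_surjective (π y)
        show x * y - τ (x * y) = (x - τ x) * (y - τ y)
        have h1 := hKK _ _ (hsub x a ha.symm) (hτker y)
        have h2 := hKK _ _ (hsub y c hc.symm) (hτker x)
        have h3 := hKK _ _ (hτker x) (hτker y)
        have h4 : τ (x * y) = algebraMap A B a * τ y + algebraMap A B c * τ x := by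
          simp only [τ]
          rw [hD x y a c ha.symm hc.symm, map_add, Submodule.coe_add, hτsmul, hτsmul]
        rw [h4]
        linear_combination h1 + h2 - h3)
  have hη : ∀ x, η x ∈ (Algebra.ofId A B).range := fun x => by
    have h0 : D (η x) = 0 := by
      show D (x - τ x) = 0
      rw [map_sub, htD, sub_self]
    exact (Submodule.Quotient.mk_eq_zero M1).mp h0
  let e := AlgEquiv.ofInjective (Algebra.ofId A B) hinj
  refine ⟨e.symm.toAlgHom.comp (η.codRestrict _ hη), fun x => ?_⟩
  have h1 : algebraMap A B ((e.symm.toAlgHom.comp (η.codRestrict _ hη)) x) = η x :=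
    congrArg Subtype.val (e.apply_symm_apply ⟨η x, hη x⟩)
  rw [← hπm, h1]
  show π (x - τ x) = π x
  rw [map_sub, RingHom.mem_ker.mp (hτker x), sub_zero]

end Groth.Agent.H13Inf.SmoothAlg
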