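import Groth.Agent.H13Inf.SmoothChart
import Groth.Agent.H13Inf.Space
import Groth.Agent.H13Inf.Thick

/-!
Formal smoothness of morphisms of algebraic spaces on charts.
-/

universe u

open CategoryTheory CategoryTheory.Limits AlgebraicGeometry Opposite
open AlgSp

namespace Groth.Agent.H13Inf

variable {S : Scheme.{u}} {F G : Sp S}

theorem isFormallySmoothHom_of_yon_map {U V : Over S} {h : U ⟶ V}
    (hf : IsFormallySmoothMor ((yon S).map h)) : MoreMor.IsFormallySmoothHom h.left := by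
  intro A _ I hI a b hab
  have hstr : a ≫ U.hom = Spec.map (CommRingCat.ofHom (Ideal.Quotient.mk I)) ≫ b ≫ V.hom := by
    rw [← Over.w h, ← Category.assoc, ← hab, Category.assoc]
  let top : quotPt (b ≫ V.hom) I ⟶ U := Over.homMk a hstr
  let bot : Over.mk (b ≫ V.hom) ⟶ V := Over.homMk b rfl
  let sq : InfSq ((yon S).map h) :=
    { A := A, I := I, sq_zero := hI, str := b ≫ V.hom, top := (yon S).map top, bot := (yon S).map bot
      comm := by
        rw [← Functor.map_comp, ← Functor.map_comp]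
        exact congrArg _ (Over.OverMorphism.ext hab.symm) }
  obtain ⟨l, h1, h2⟩ := hf sq
  obtain ⟨l, rfl⟩ := (yon S).map_surjective l
  exact ⟨l.left,
    congrArg CommaMorphism.left
      (show sq.j ≫ l = top from (yon S).map_injective ((Functor.map_comp _ _ _).trans h1)),
    congrArg CommaMorphism.left
      (show l ≫ h = bot from (yon S).map_injective ((Functor.map_comp _ _ _).trans h2))⟩

theorem isFormallySmoothHom_chart {f : F ⟶ G} (hf : IsFormallySmoothMor f) {U V : Over S}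
    {a : (yon S).obj U ⟶ F} {b : (yon S).obj V ⟶ G} {h : U ⟶ V} (ha : RepWith @Etale a)
    (hb : RepWith @Etale b) (w : a ≫ f = (yon S).map h ≫ b) : MoreMor.IsFormallySmoothHom h.left := by
  refine isFormallySmoothHom_of_yon_map fun sq => ?_
  -- lift to the source of `f`
  obtain ⟨x, hx₁, hx₂⟩ := hf ⟨sq.A, sq.I, sq.sq_zero, sq.str, sq.top ≫ a, sq.bot ≫ b, by
    show (sq.top ≫ a) ≫ f = (yon S).map sq.j ≫ sq.bot ≫ b
    rw [Category.assoc, w, ← Category.assoc, sq.comm, Category.assoc]⟩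
  obtain ⟨l, ⟨hl₁, hl₂⟩, -⟩ := isFormallyEtaleMor_of_etale ha ⟨sq.A, sq.I, sq.sq_zero, sq.str, sq.top, x, by
    show sq.top ≫ a = (yon S).map sq.j ≫ x
    exact hx₁.symm⟩
  refine ⟨l, hl₁, formallyUnramified_of_formallyEtale (isFormallyEtaleMor_of_etale hb)
    ⟨sq.A, sq.I, sq.sq_zero, sq.str, sq.top ≫ (yon S).map h, sq.bot ≫ b, by
      show (sq.top ≫ (yon S).map h) ≫ b = (yon S).map sq.j ≫ sq.bot ≫ b
      rw [sq.comm, Category.assoc]⟩ _ _ ?_ ?_ sq.comm.symm rfl⟩
  · show (yon S).map sq.j ≫ l ≫ (yon S).map h = sq.top ≫ (yon S).map h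
    exact (Category.assoc _ _ _).symm.trans (congrArg (· ≫ (yon S).map h) hl₁)
  · show (l ≫ (yon S).map h) ≫ b = sq.bot ≫ b
    exact ((Category.assoc _ _ _).trans (congrArg (l ≫ ·) w.symm)).trans
      (((Category.assoc _ _ _).symm.trans (congrArg (· ≫ f) hl₂)).trans hx₂)

end Groth.Agent.H13Inf
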