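import Groth.Agent.H13Inf.ImageDescent
import Groth.Agent.H13Inf.SmoothAlg
import Groth.Agent.H13Inf.InfNbhd
import Groth.Agent.H13Inf.Converse
import Groth.Agent.H13AlgSp.AffineDescent
import Groth.Agent.H13AlgSp.TopInv
import Groth.Agent.H8Props.FormallySmoothScheme

/-!
A morphism of sheaves with a formally smooth chart is formally smooth.
-/

universe u

open CategoryTheory CategoryTheory.Limits AlgebraicGeometry Opposite
open AlgSp Groth.Agent.H12AlgSp

namespace Groth.Agent.H13Inf.SmoothChart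

variable {S : Scheme.{u}} {X Y : Sp S}

/-- An affine refinement of an etale covering of a quasi-compact scheme. -/
theorem exists_affine_refinement {E Z : Scheme.{u}} [CompactSpace Z] (e : E ⟶ Z) [Etale e] [Surjective e] :
    ∃ (E' : Scheme.{u}) (k : E' ⟶ E), IsAffine E' ∧ Etale k ∧ Surjective (k ≫ e) := by
  obtain ⟨t, ht⟩ := isCompact_univ.elim_finite_subcover
    (fun V : E.affineOpens => e '' (V.1 : Set E)) (fun V => e.isOpenMap _ V.1.isOpen)
    (fun z _ => by
      obtain ⟨x, rfl⟩ := e.surjective z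
      obtain ⟨V, hV⟩ := TopologicalSpace.Opens.mem_iSup.1
        ((iSup_affineOpens_eq_top E).ge (Set.mem_univ x))
      exact Set.mem_iUnion.2 ⟨V, x, hV, rfl⟩)
  have : ∀ V : t, IsAffine V.1.1.toScheme := fun V => V.1.2
  refine ⟨∐ fun V : t => V.1.1.toScheme, Sigma.desc fun V => V.1.1.ι, inferInstance,
    IsZariskiLocalAtSource.sigmaDesc (P := @Etale) fun V => inferInstance, ⟨fun z => ?_⟩⟩
  obtain ⟨V, hV, x, hx, rfl⟩ := Set.mem_iUnion₂.1 (ht (Set.mem_univ z))
  refine ⟨Sigma.ι (fun V : t => V.1.1.toScheme) ⟨V, hV⟩ ⟨x, hx⟩, ?_⟩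
  rw [← Scheme.Hom.comp_apply, Sigma.ι_desc_assoc]
  rfl

/-- Morphisms into an etale chart agree if they agree on points and after the chart. -/
theorem eq_of_etale_chart {U T : Over S} {a : (yon S).obj U ⟶ X} (ha : RepWith @Etale a) (g₁ g₂ : T ⟶ U)
    (h : (yon S).map g₁ ≫ a = (yon S).map g₂ ≫ a)
    (hpt : ∀ t, T.left.fromSpecResidueField t ≫ g₁.left = T.left.fromSpecResidueField t ≫ g₂.left) :
    g₁ = g₂ := by
  obtain ⟨W, p₂, p₁', sqW⟩ := ha.1 a
  obtain ⟨p₁, rfl⟩ := (yon S).map_surjective p₁'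
  obtain ⟨δ, hδ⟩ := (yon S).map_surjective (sqW.lift (𝟙 _) (𝟙 _) rfl)
  obtain ⟨l, hl⟩ := (yon S).map_surjective (sqW.lift ((yon S).map g₁) ((yon S).map g₂) h)
  have hδ₁ : δ ≫ p₁ = 𝟙 _ := (yon S).map_injective (by
    rw [Functor.map_comp, hδ, sqW.lift_fst, CategoryTheory.Functor.map_id])
  have hδ₂ : δ ≫ p₂ = 𝟙 _ := (yon S).map_injective (by
    rw [Functor.map_comp, hδ, sqW.lift_snd, CategoryTheory.Functor.map_id])
  have hl₁ : l ≫ p₁ = g₁ := (yon S).map_injective (by rw [Functor.map_comp, hl, sqW.lift_fst])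
  have hl₂ : l ≫ p₂ = g₂ := (yon S).map_injective (by rw [Functor.map_comp, hl, sqW.lift_snd])
  have e₁ : δ.left ≫ p₁.left = 𝟙 _ := congrArg (fun t => t.left) hδ₁
  have : Etale p₂.left := ha.2 _ _ _ sqW
  have : Etale (δ.left ≫ p₂.left) := by rw [← Over.comp_left, hδ₂, Over.id_left]; infer_instance
  have : Etale δ.left := Etale.of_comp δ.left p₂.left
  have : IsSplitMono δ.left := IsSplitMono.mk' ⟨_, e₁⟩
  have : IsOpenImmersion δ.left := IsOpenImmersion.of_flat_of_mono _
  have hr : Set.range l.left ⊆ Set.range δ.left := by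
    rintro _ ⟨t, rfl⟩
    obtain ⟨x, hx⟩ : t ∈ Set.range (T.left.fromSpecResidueField t) := by
      rw [Scheme.range_fromSpecResidueField]; rfl
    have e : T.left.fromSpecResidueField t ≫ l.left = (T.left.fromSpecResidueField t ≫ g₁.left) ≫ δ.left := by
      let k : Over.mk (T.left.fromSpecResidueField t ≫ T.hom) ⟶ T := Over.homMk (T.left.fromSpecResidueField t) rfl
      have hk : k ≫ g₁ = k ≫ g₂ := Over.OverMorphism.ext (hpt t)
      have : k ≫ l = (k ≫ g₁) ≫ δ := by
        apply (yon S).map_injective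
        refine sqW.hom_ext ?_ ?_
        · rw [← Functor.map_comp, ← Functor.map_comp, Category.assoc, hl₁, Category.assoc, hδ₁,
            Category.comp_id]
        · rw [← Functor.map_comp, ← Functor.map_comp, Category.assoc, hl₂, Category.assoc, hδ₂,
            Category.comp_id, hk]
      exact congrArg (fun t => t.left) this
    refine ⟨(T.left.fromSpecResidueField t ≫ g₁.left) x, ?_⟩
    have h' := congrArg (fun k => k x) e
    rw [Scheme.Hom.comp_apply, hx] at h'
    exact h'.symm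
  let k : T ⟶ U := Over.homMk (IsOpenImmersion.lift δ.left l.left hr) (by
    rw [← Over.w δ, IsOpenImmersion.lift_fac_assoc, Over.w])
  have hk : k ≫ δ = l := Over.OverMorphism.ext (IsOpenImmersion.lift_fac _ _ _)
  rw [← hl₁, ← hl₂, ← hk, Category.assoc, Category.assoc, hδ₁, hδ₂]

/-- The first order neighbourhood of local lifts maps monomorphically to the lifting problem. -/
theorem eq_of_neighbourhood {U Z' : Over S} {a : (yon S).obj U ⟶ X} (ha : RepWith @Etale a)
    {A' : Type u} [CommRing A'] {str' : Spec (.of A') ⟶ S} (I' : Ideal A')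
    (φO : Z' ⟶ Over.mk str') (qO : Z' ⟶ U) (πO : quotPt str' I' ⟶ Z')
    (hπφ : πO ≫ φO = quotMap str' I')
    (hπs : Surjective πO.left) (hπc : IsClosedImmersion πO.left)
    (hmono : ∀ (T : Over S) (z₁ z₂ : T ⟶ Z'), IsAffine T.left → z₁ ≫ φO = z₂ ≫ φO →
      z₁ ≫ qO = z₂ ≫ qO → z₁ = z₂) (T : Over S) (z₁ z₂ : T ⟶ Z') (h₁ : z₁ ≫ φO = z₂ ≫ φO)
    (h₂ : (yon S).map (z₁ ≫ qO) ≫ a = (yon S).map (z₂ ≫ qO) ≫ a) : z₁ = z₂ := by
  have hq : z₁ ≫ qO = z₂ ≫ qO := by
    refine eq_of_etale_chart ha _ _ h₂ fun t => ?_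
    have key : ∀ z : T ⟶ Z', ∃ k, k ≫ πO.left = T.left.fromSpecResidueField t ≫ z.left := fun z => by
      have : IsIso (pullback.snd πO.left (T.left.fromSpecResidueField t ≫ z.left)) :=
        isIso_of_isClosedImmersion_of_surjective _
      exact ⟨inv (pullback.snd πO.left (T.left.fromSpecResidueField t ≫ z.left)) ≫ pullback.fst _ _, by
        rw [Category.assoc, pullback.condition, IsIso.inv_hom_id_assoc]⟩
    obtain ⟨k₁, hk₁⟩ := key z₁
    obtain ⟨k₂, hk₂⟩ := key z₂
    have : IsClosedImmersion (quotMap str' I').left :=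
      IsClosedImmersion.spec_of_surjective _ Ideal.Quotient.mk_surjective
    have e : k₁ = k₂ := by
      rw [← cancel_mono (quotMap str' I').left]
      have h := congrArg (fun s => s.left) hπφ
      simp only [Over.comp_left] at h
      have h₁' := congrArg (fun s => T.left.fromSpecResidueField t ≫ s.left) h₁
      simp only [Over.comp_left] at h₁'
      rw [← h, reassoc_of% hk₁, reassoc_of% hk₂]
      exact h₁'
    simp only [Over.comp_left]
    rw [← reassoc_of% hk₁, ← reassoc_of% hk₂, e]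
  obtain ⟨κ, B, str, e, he, hcov, -⟩ := exists_affine_pieces T
  apply (yon S).map_injective
  refine H13AlgSp.hom_ext_of_cover e hcov fun i => ?_
  rw [← Functor.map_comp, ← Functor.map_comp, hmono _ (e i ≫ z₁) (e i ≫ z₂)
    (inferInstanceAs (IsAffine (Spec (B i)))) (by rw [Category.assoc, Category.assoc, h₁])
    (by rw [Category.assoc, Category.assoc, hq])]

theorem surjective_SpecMap {R R' : Type u} [CommRing R] [CommRing R'] (π : R →+* R')
    (hπ : Function.Surjective π) (h : RingHom.ker π ^ 2 = ⊥) :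
    Surjective (Spec.map (CommRingCat.ofHom π)) := ⟨fun p => by
  show p ∈ Set.range (PrimeSpectrum.comap π)
  rw [range_comap_of_surjective _ _ hπ]
  intro x hx
  have := Ideal.pow_mem_pow hx 2
  rw [h, Ideal.mem_bot] at this
  exact p.2.mem_of_pow_mem 2 (by simp [this])⟩

set_option linter.style.haveILetI false in
set_option maxHeartbeats 2000000 in
/-- A morphism of sheaves with a formally smooth chart is formally smooth. -/
theorem isFormallySmoothMor_of_chart {f : X ⟶ Y} {U V : Over S} {a : (yon S).obj U ⟶ X}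
    {b : (yon S).obj V ⟶ Y} {h : U ⟶ V} (ha : RepWith @Etale a) (has : RepWith @Surjective a)
    (hb : RepWith @Etale b) (w : a ≫ f = (yon S).map h ≫ b) (hh : MoreMor.IsFormallySmoothHom h.left) :
    IsFormallySmoothMor f := by
  intro sq
  have hI : sq.I ^ 2 = ⊥ := sq.sq_zero
  let qI : quotPt sq.str sq.I ⟶ Over.mk sq.str := quotMap sq.str sq.I
  have : IsClosedImmersion qI.left := IsClosedImmersion.spec_of_surjective _ Ideal.Quotient.mk_surjective
  have : Mono qI := (Over.forget S).mono_of_mono_map (inferInstanceAs (Mono qI.left))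
  let top : (yon S).obj (quotPt sq.str sq.I) ⟶ X := sq.top
  let bot : (yon S).obj (Over.mk sq.str) ⟶ Y := sq.bot
  have hcomm : top ≫ f = (yon S).map qI ≫ bot := sq.comm
  -- the covering
  obtain ⟨E₀, e₀, tU, pb⟩ := ha.1 top
  have he₀ : Etale e₀.left := ha.2 _ _ _ pb
  have he₀s : Surjective e₀.left := has.2 _ _ _ pb
  have hqs : Surjective qI.left := surjective_SpecMap _ Ideal.Quotient.mk_surjective (by rw [Ideal.mk_ker]; exact hI)
  obtain ⟨E₁, g₁, c₀, hg₁, sqc⟩ := H13AlgSp.TopInv.exists_scheme_lift qI.left e₀.left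
  have : Surjective g₁ := ⟨fun x => by
    obtain ⟨x₀, rfl⟩ := qI.left.surjective x
    obtain ⟨y, rfl⟩ := e₀.left.surjective x₀
    exact ⟨c₀ y, by rw [← Scheme.Hom.comp_apply, ← Scheme.Hom.comp_apply, sqc.w]⟩⟩
  have : CompactSpace (Over.mk sq.str).left :=
    inferInstanceAs (CompactSpace (Spec (CommRingCat.of sq.A)))
  obtain ⟨E₂, k₂, hE₂, hk₂, hk₂s⟩ := exists_affine_refinement g₁
  let A' : Type u := Γ(E₂, ⊤)
  let kk : Spec (.of A') ⟶ E₁ := E₂.isoSpec.inv ≫ k₂
  obtain ⟨φA, hφA⟩ : ∃ φA : sq.A →+* A', kk ≫ g₁ = Spec.map (CommRingCat.ofHom φA) :=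
    ⟨(Spec.preimage (kk ≫ g₁ : Spec (.of A') ⟶ Spec (.of sq.A))).hom, (Spec.map_preimage _).symm⟩
  let str' : Spec (.of A') ⟶ S := Spec.map (CommRingCat.ofHom φA) ≫ sq.str
  let I' : Ideal A' := sq.I.map φA
  have hI' : I' ^ 2 = ⊥ := by rw [← Ideal.map_pow, hI, Ideal.map_bot]
  let eO : Over.mk str' ⟶ Over.mk sq.str := Over.homMk (Spec.map (CommRingCat.ofHom φA)) rfl
  have heet : Etale eO.left := by
    show Etale (Spec.map (CommRingCat.ofHom φA))
    rw [← hφA]
    simp only [kk, Category.assoc]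
    infer_instance
  have hees : Surjective eO.left := by
    show Surjective (Spec.map (CommRingCat.ofHom φA))
    rw [← hφA]
    simp only [kk, Category.assoc]
    infer_instance
  let pr : quotPt str' I' ⟶ quotPt sq.str sq.I :=
    Over.homMk (Spec.map (CommRingCat.ofHom (Ideal.quotientMap I' φA Ideal.le_comap_map))) (by
      dsimp [str']
      rw [← Category.assoc, ← Category.assoc, ← Spec.map_comp, ← Spec.map_comp]
      rfl)
  have sqpr : IsPullback pr (quotMap str' I') qI eO := isPullback_quotPt φA sq.I sq.str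
  have hprE : Etale pr.left :=
    MorphismProperty.of_isPullback (P := @Etale) (sqpr.map (Over.forget S)).flip heet
  have hprS : Surjective pr.left :=
    MorphismProperty.of_isPullback (P := @Surjective) (sqpr.map (Over.forget S)).flip hees
  obtain ⟨w₀, hw₀, -⟩ := sqc.exists_lift pr.left ((quotMap str' I').left ≫ kk) (by
    rw [Category.assoc, hφA]
    exact congrArg (fun t => t.left) sqpr.w)
  let wO : quotPt str' I' ⟶ E₀ := Over.homMk w₀ (by rw [← Over.w e₀, reassoc_of% hw₀, Over.w pr])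
  have hwO : wO ≫ e₀ = pr := Over.OverMorphism.ext hw₀
  obtain ⟨u₁, hu₁⟩ := (yon S).map_surjective ((yon S).map wO ≫ tU)
  have hu₁a : (yon S).map u₁ ≫ a = (yon S).map pr ≫ top := by
    rw [hu₁, Category.assoc, pb.w, ← Category.assoc, ← Functor.map_comp, hwO]
  obtain ⟨v', ⟨hv₁, hv₂⟩, -⟩ := isFormallyEtaleMor_of_etale hb
    ⟨A', I', hI', str', (yon S).map (u₁ ≫ h), (yon S).map eO ≫ bot, by
      show (yon S).map (u₁ ≫ h) ≫ b = (yon S).map (quotMap str' I') ≫ (yon S).map eO ≫ bot
      rw [Functor.map_comp, Category.assoc, ← w, reassoc_of% hu₁a, hcomm, ← Category.assoc,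
        ← Functor.map_comp, sqpr.w, Functor.map_comp, Category.assoc]⟩
  obtain ⟨v, rfl⟩ := (yon S).map_surjective v'
  have hv : quotMap str' I' ≫ v = u₁ ≫ h := (yon S).map_injective (by rw [Functor.map_comp]; exact hv₁)
  replace hv₂ : (yon S).map v ≫ b = (yon S).map eO ≫ bot := hv₂
  -- the neighbourhood on the covering
  obtain ⟨B', φ', π', q', hφπ, hqh, hπq, hπs', hπ2', hmono', huf⟩ :=
    H8Props.FormallySmoothScheme.exists_neighbourhood h.left I' hI' u₁.left v.left
      (congrArg (fun t => t.left) hv)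
  let Z' : Over S := Over.mk (Spec.map φ' ≫ str')
  let φO : Z' ⟶ Over.mk str' := Over.homMk (Spec.map φ') rfl
  let qO : Z' ⟶ U := Over.homMk q' (by rw [← Over.w h, reassoc_of% hqh, Over.w v]; rfl)
  let πO : quotPt str' I' ⟶ Z' := Over.homMk (Spec.map π') (by
    dsimp [Z']
    rw [← Category.assoc, ← Spec.map_comp, hφπ])
  have hqh' : qO ≫ h = φO ≫ v := Over.OverMorphism.ext hqh
  have hπq' : πO ≫ qO = u₁ := Over.OverMorphism.ext hπq
  have hπφ : πO ≫ φO = quotMap str' I' := Over.OverMorphism.ext (by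
    simp only [Over.comp_left, φO, πO, Over.homMk_left, ← Spec.map_comp, hφπ])
  have hπc : IsClosedImmersion πO.left := IsClosedImmersion.spec_of_surjective _ hπs'
  have hπS : Surjective πO.left := surjective_SpecMap π'.hom hπs' hπ2'
  have hmonoA : ∀ (T : Over S) (z₁ z₂ : T ⟶ Z'), IsAffine T.left → z₁ ≫ φO = z₂ ≫ φO →
      z₁ ≫ qO = z₂ ≫ qO → z₁ = z₂ := by
    intro T z₁ z₂ _ h₁ h₂
    obtain ⟨ψ₁, hψ₁⟩ := Spec.map_surjective (T.left.isoSpec.inv ≫ z₁.left)
    obtain ⟨ψ₂, hψ₂⟩ := Spec.map_surjective (T.left.isoSpec.inv ≫ z₂.left)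
    refine Over.OverMorphism.ext ((cancel_epi T.left.isoSpec.inv).1 ?_)
    rw [← hψ₁, ← hψ₂, hmono' _ ψ₁ ψ₂]
    · apply Spec.map_injective
      rw [Spec.map_comp, Spec.map_comp, hψ₁, hψ₂, Category.assoc, Category.assoc]
      exact congrArg (fun t => T.left.isoSpec.inv ≫ t.left) h₁
    · rw [hψ₁, hψ₂, Category.assoc, Category.assoc]
      exact congrArg (fun t => T.left.isoSpec.inv ≫ t.left) h₂
  let m : (yon S).obj Z' ⟶ pullback f bot := pullback.lift ((yon S).map qO ≫ a)
    ((yon S).map (φO ≫ eO)) (by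
      rw [Category.assoc, w, ← Category.assoc, ← Functor.map_comp, hqh', Functor.map_comp,
        Category.assoc, hv₂, ← Category.assoc, ← Functor.map_comp])
  have hm₁ : m ≫ pullback.fst f bot = (yon S).map qO ≫ a := pullback.lift_fst _ _ _
  have hm₂ : m ≫ pullback.snd f bot = (yon S).map (φO ≫ eO) := pullback.lift_snd _ _ _
  have hmonoP : ∀ (T : Over S) (z₁ z₂ : T ⟶ Z'), z₁ ≫ φO = z₂ ≫ φO →
      (yon S).map z₁ ≫ m = (yon S).map z₂ ≫ m → z₁ = z₂ := fun T z₁ z₂ h₁ h₂ =>
    eq_of_neighbourhood ha I' φO qO πO hπφ hπS hπc hmonoA T z₁ z₂ h₁ (by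
      rw [Functor.map_comp, Functor.map_comp, Category.assoc, Category.assoc, ← hm₁, reassoc_of% h₂])
  have hmoveA : ∀ (R : CommRingCat.{u}) (strR : Spec (.of R) ⟶ S) (z : Over.mk strR ⟶ Z')
      (y : Over.mk strR ⟶ Over.mk str'), y ≫ eO = z ≫ φO ≫ eO →
      ∃ z₂ : Over.mk strR ⟶ Z', z₂ ≫ φO = y ∧ (yon S).map z₂ ≫ m = (yon S).map z ≫ m := by
    intro R strR z y hzy
    obtain ⟨ψz, hψz⟩ : ∃ ψz : B' →+* R, z.left = Spec.map (CommRingCat.ofHom ψz) :=
      ⟨(Spec.preimage (z.left : Spec (.of R) ⟶ Spec B')).hom, (Spec.map_preimage _).symm⟩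
    obtain ⟨ρ, hρ⟩ : ∃ ρ : A' →+* R, y.left = Spec.map (CommRingCat.ofHom ρ) :=
      ⟨(Spec.preimage (y.left : Spec (.of R) ⟶ Spec (.of A'))).hom, (Spec.map_preimage _).symm⟩
    let J₁ : Ideal R := (RingHom.ker π'.hom).map ψz
    have hJ₁ : J₁ ^ 2 = ⊥ := by rw [← Ideal.map_pow, hπ2', Ideal.map_bot]
    have hring : ρ.comp φA = (ψz.comp φ'.hom).comp φA := by
      have e := congrArg (fun t => t.left) hzy
      simp only [Over.comp_left, hψz, hρ, φO, eO, Over.homMk_left, ← Spec.map_comp] at e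
      exact congrArg CommRingCat.Hom.hom (Spec.map_injective e)
    have hIJ : I' ≤ J₁.comap ρ := by
      refine Ideal.map_le_iff_le_comap.2 fun i hi => ?_
      rw [Ideal.mem_comap, Ideal.mem_comap]
      show ρ.comp φA i ∈ J₁
      rw [hring]
      refine Ideal.mem_map_of_mem _ ?_
      show π'.hom (φ'.hom (φA i)) = 0
      rw [← RingHom.comp_apply, ← CommRingCat.hom_comp, hφπ]
      exact Ideal.Quotient.eq_zero_iff_mem.2 (Ideal.mem_map_of_mem _ hi)
    obtain ⟨ε, hε⟩ := exists_quotMap_comp (g := y) hρ hIJ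
    let κ : A' ⧸ I' →+* R ⧸ J₁ := RingHom.liftOfSurjective π'.hom hπs'
      ⟨(Ideal.Quotient.mk J₁).comp ψz, fun x hx =>
        Ideal.Quotient.eq_zero_iff_mem.2 (Ideal.mem_map_of_mem _ hx)⟩
    have hκ : π' ≫ CommRingCat.ofHom κ = CommRingCat.ofHom ψz ≫ CommRingCat.ofHom (Ideal.Quotient.mk J₁) :=
      CommRingCat.hom_ext (RingHom.liftOfSurjective_comp _ _ _)
    have hκ' : Spec.map (CommRingCat.ofHom κ) ≫ πO.left = (quotMap strR J₁).left ≫ z.left := by
      rw [hψz]
      simp only [πO, Over.homMk_left, ← Spec.map_comp, hκ]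
    let ζ : quotPt strR J₁ ⟶ quotPt str' I' := Over.homMk (Spec.map (CommRingCat.ofHom κ)) (by
      rw [← Over.w πO, reassoc_of% hκ', Over.w z, Over.w (quotMap strR J₁)])
    have hζ : ζ ≫ πO = quotMap strR J₁ ≫ z := Over.OverMorphism.ext hκ'
    have hεζ : ε ≫ pr = ζ ≫ pr := by
      rw [← cancel_mono qI, Category.assoc, Category.assoc, sqpr.w, reassoc_of% hε, hzy, ← hπφ,
        Category.assoc, reassoc_of% hζ]
    obtain ⟨u', ⟨hu1, hu2⟩, -⟩ := isFormallyEtaleMor_of_etale ha
      ⟨R, J₁, hJ₁, strR, (yon S).map (ε ≫ u₁), (yon S).map (z ≫ qO) ≫ a, by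
        show (yon S).map (ε ≫ u₁) ≫ a = (yon S).map (quotMap strR J₁) ≫ (yon S).map (z ≫ qO) ≫ a
        rw [Functor.map_comp, Category.assoc, hu₁a, ← Category.assoc, ← Functor.map_comp, hεζ,
          Functor.map_comp, Category.assoc, ← hu₁a, ← Category.assoc, ← Functor.map_comp, ← hπq',
          reassoc_of% hζ, Functor.map_comp, Category.assoc]⟩
    obtain ⟨u, rfl⟩ : ∃ u : Over.mk strR ⟶ U, (yon S).map u = u' := (yon S).map_surjective u'
    replace hu1 : quotMap strR J₁ ≫ u = ε ≫ u₁ := (yon S).map_injective (by rw [Functor.map_comp]; exact hu1)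
    replace hu2 : (yon S).map u ≫ a = (yon S).map (z ≫ qO) ≫ a := hu2
    have hub : (yon S).map (u ≫ h) ≫ b = (yon S).map (y ≫ v) ≫ b := by
      rw [Functor.map_comp, Category.assoc, ← w, reassoc_of% hu2, Functor.map_comp, Category.assoc, w,
        ← Category.assoc ((yon S).map qO), ← Functor.map_comp, hqh', Functor.map_comp, Category.assoc, hv₂,
        ← Category.assoc ((yon S).map φO), ← Functor.map_comp, ← Category.assoc, ← Functor.map_comp, ← hzy,
        Functor.map_comp, Category.assoc, ← hv₂, ← Category.assoc, ← Functor.map_comp]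
    have hur : (yon S).map (quotMap strR J₁) ≫ (yon S).map (u ≫ h) = (yon S).map (quotMap strR J₁ ≫ y ≫ v) := by
      rw [← Functor.map_comp, reassoc_of% hu1, ← hv, reassoc_of% hε]
    have huh : u ≫ h = y ≫ v := (yon S).map_injective
      (formallyUnramified_of_formallyEtale (isFormallyEtaleMor_of_etale hb)
        ⟨R, J₁, hJ₁, strR, (yon S).map (quotMap strR J₁ ≫ y ≫ v), (yon S).map (y ≫ v) ≫ b, by
          show (yon S).map (quotMap strR J₁ ≫ y ≫ v) ≫ b = (yon S).map (quotMap strR J₁) ≫ _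
          rw [Functor.map_comp, Category.assoc]⟩ _ _ hur hub (Functor.map_comp _ _ _).symm rfl)
    obtain ⟨εc, hεc⟩ : ∃ εc : CommRingCat.of (A' ⧸ I') ⟶ CommRingCat.of (R ⧸ J₁), ε.left = Spec.map εc :=
      ⟨_, (Spec.map_preimage _).symm⟩
    obtain ⟨ψ, hψ₁, hψ₂⟩ := huf R J₁ hJ₁ (CommRingCat.ofHom ρ) εc (Spec.map_injective (by
        rw [Spec.map_comp, Spec.map_comp, ← hεc, ← hρ]
        exact congrArg (fun t => t.left) hε))
      u.left (by rw [← hρ]; exact congrArg (fun t => t.left) huh)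
      (by rw [← hεc]; exact congrArg (fun t => t.left) hu1)
    let z₂ : Over.mk strR ⟶ Z' := Over.homMk (Spec.map ψ) (by
      dsimp [Z']
      rw [← Category.assoc, ← Spec.map_comp, hψ₁, ← hρ]
      exact Over.w y)
    have hz₂ : z₂ ≫ φO = y := Over.OverMorphism.ext (by
      simp only [Over.comp_left, z₂, φO, Over.homMk_left, ← Spec.map_comp, hψ₁, hρ])
    have hz₂q : z₂ ≫ qO = u := Over.OverMorphism.ext hψ₂
    refine ⟨z₂, hz₂, pullback.hom_ext ?_ ?_⟩
    · rw [Category.assoc, Category.assoc, hm₁, ← Category.assoc, ← Functor.map_comp, hz₂q, hu2,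
        Functor.map_comp, Category.assoc]
    · rw [Category.assoc, Category.assoc, hm₂, ← Functor.map_comp, ← Functor.map_comp, reassoc_of% hz₂, hzy]
  have hmove : ∀ (T : Over S) (z : T ⟶ Z') (y : T ⟶ Over.mk str'), y ≫ eO = z ≫ φO ≫ eO →
      ∃ z₂ : T ⟶ Z', z₂ ≫ φO = y ∧ (yon S).map z₂ ≫ m = (yon S).map z ≫ m := by
    intro T z y hzy
    obtain ⟨κ, C, str, e, he, hcov, -⟩ := exists_affine_pieces T
    choose z₂ hz₁ hz₂ using fun i => hmoveA (C i) (str i) (e i ≫ z) (e i ≫ y)
      (by rw [Category.assoc, hzy, Category.assoc])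
    obtain ⟨l, hl⟩ := exists_glue e hcov (fun i => (yon S).map (z₂ i)) fun i j W gi gj hg => by
      rw [← Functor.map_comp, ← Functor.map_comp]
      congr 1
      apply hmonoP
      · rw [Category.assoc, Category.assoc, hz₁, hz₁, reassoc_of% hg]
      · rw [Functor.map_comp, Functor.map_comp, Category.assoc, Category.assoc, hz₂, hz₂,
          ← Category.assoc, ← Category.assoc, ← Functor.map_comp, ← Functor.map_comp, reassoc_of% hg]
    obtain ⟨z', rfl⟩ := (yon S).map_surjective l
    refine ⟨z', (yon S).map_injective (H13AlgSp.hom_ext_of_cover e hcov fun i => ?_),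
      H13AlgSp.hom_ext_of_cover e hcov fun i => ?_⟩
    · rw [Functor.map_comp, reassoc_of% hl i, ← Functor.map_comp, hz₁, Functor.map_comp]
    · rw [reassoc_of% hl i, hz₂, Functor.map_comp, Category.assoc]
  -- descent
  obtain ⟨F, ι, m', hι, hm', hF, sqF⟩ := ImageDescent.exists_descent m eO
    ⟨⟨hees, inferInstanceAs (Flat eO.left)⟩, inferInstanceAs (LocallyOfFinitePresentation eO.left)⟩
    φO (pullback.snd f bot) hm₂ hmonoP hmove
  have : IsAffine (Over.mk sq.str).left := inferInstanceAs (IsAffine (Spec (CommRingCat.of sq.A)))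
  have : IsAffine (Over.mk str').left := inferInstanceAs (IsAffine (Spec (CommRingCat.of A')))
  have : IsAffine Z'.left := inferInstanceAs (IsAffine (Spec B'))
  obtain ⟨Z₀, z₀, κ, hZ₀, hκ, hκz⟩ := H13AlgSp.exists_iso_affine hF _ eO m' φO sqF
  let B : Type u := Γ(Z₀.left, ⊤)
  let strB : Spec (.of B) ⟶ S := Z₀.left.isoSpec.inv ≫ Z₀.hom
  let εB : Over.mk strB ⟶ Z₀ := Over.homMk Z₀.left.isoSpec.inv rfl
  have : IsIso ((Over.forget S).map εB) := inferInstanceAs (IsIso Z₀.left.isoSpec.inv)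
  have : IsIso εB := isIso_of_reflects_iso εB (Over.forget S)
  let κB : (yon S).obj (Over.mk strB) ⟶ F := (yon S).map εB ≫ inv κ
  let zB : Over.mk strB ⟶ Over.mk sq.str := εB ≫ z₀
  have hzB : (yon S).map zB = κB ≫ ι ≫ pullback.snd f bot := by
    simp only [κB, zB, Functor.map_comp, Category.assoc, ← hκz, IsIso.inv_hom_id_assoc]
  obtain ⟨g, hg⟩ := (yon S).map_surjective (m' ≫ inv κB)
  have hgκ : (yon S).map g ≫ κB = m' := by rw [hg, Category.assoc, IsIso.inv_hom_id, Category.comp_id]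
  have sqG : IsPullback g φO zB eO := by
    have hsq : IsPullback ((yon S).map g) ((yon S).map φO) ((yon S).map zB) ((yon S).map eO) :=
      IsPullback.of_iso sqF (Iso.refl _) (asIso κB).symm (Iso.refl _) (Iso.refl _)
        (by simp [← hgκ]) (by simp) (by simp [hzB]) (by simp)
    exact IsPullback.of_map (yon S) ((yon S).map_injective (by
      rw [Functor.map_comp, Functor.map_comp]; exact hsq.w)) hsq
  -- the section over the closed subscheme
  let s₀ : (yon S).obj (quotPt sq.str sq.I) ⟶ pullback f bot := pullback.lift top ((yon S).map qI) hcomm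
  have hs₀₁ : s₀ ≫ pullback.fst f bot = top := pullback.lift_fst _ _ _
  have hs₀₂ : s₀ ≫ pullback.snd f bot = (yon S).map qI := pullback.lift_snd _ _ _
  have hcovI : Sieve.ofArrows (fun _ : PUnit.{u+1} => quotPt str' I') (fun _ => pr) ∈ J S (quotPt sq.str sq.I) :=
    H13AlgSp.ofArrows_mem_J _ (fun _ => inferInstance) (fun _ => inferInstance)
      (fun t => ⟨⟨⟩, pr.left.surjective t⟩)
  have hπm : (yon S).map πO ≫ m = (yon S).map pr ≫ s₀ := by
    refine pullback.hom_ext ?_ ?_
    · rw [Category.assoc, Category.assoc, hm₁, hs₀₁, ← hu₁a, ← Category.assoc, ← Functor.map_comp, hπq']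
    · rw [Category.assoc, Category.assoc, hm₂, hs₀₂, ← Functor.map_comp, ← Functor.map_comp, reassoc_of% hπφ,
        sqpr.w]
  obtain ⟨s, hs⟩ := exists_glue (fun _ : PUnit.{u+1} => pr) hcovI (fun _ => (yon S).map πO ≫ m')
    fun _ _ W gi gj hgij => by
      rw [← cancel_mono ι]
      simp only [Category.assoc, hm', hπm]
      simp only [← Category.assoc, ← Functor.map_comp]
      rw [hgij]
  have hsι : s ≫ ι = s₀ := H13AlgSp.hom_ext_of_cover _ hcovI fun i => by
    rw [reassoc_of% hs i, hm', hπm]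
  obtain ⟨πB, hπB⟩ := (yon S).map_surjective (s ≫ inv κB)
  have hπBκ : (yon S).map πB ≫ κB = s := by rw [hπB, Category.assoc, IsIso.inv_hom_id, Category.comp_id]
  have hπz : πB ≫ zB = qI := (yon S).map_injective (by
    rw [Functor.map_comp, hzB, reassoc_of% hπBκ, reassoc_of% hsι, hs₀₂])
  have hπg : πO ≫ g = pr ≫ πB := (yon S).map_injective (by
    rw [Functor.map_comp, Functor.map_comp, ← cancel_mono κB, Category.assoc, Category.assoc, hgκ, hπBκ, hs ⟨⟩])
  -- the rings
  obtain ⟨φ, hφ⟩ : ∃ φ : sq.A →+* B, zB.left = Spec.map (CommRingCat.ofHom φ) :=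
    ⟨(Spec.preimage (zB.left : Spec (.of B) ⟶ Spec (.of sq.A))).hom, (Spec.map_preimage _).symm⟩
  obtain ⟨πr, hπr⟩ : ∃ πr : B →+* sq.A ⧸ sq.I, πB.left = Spec.map (CommRingCat.ofHom πr) :=
    ⟨(Spec.preimage (πB.left : Spec (.of (sq.A ⧸ sq.I)) ⟶ Spec (.of B))).hom, (Spec.map_preimage _).symm⟩
  obtain ⟨gB, hgB⟩ : ∃ gB : B →+* B', g.left = Spec.map (CommRingCat.ofHom gB) :=
    ⟨(Spec.preimage (g.left : Spec B' ⟶ Spec (.of B))).hom, (Spec.map_preimage _).symm⟩
  have hφπr : πr.comp φ = Ideal.Quotient.mk sq.I := by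
    have e := congrArg (fun t => t.left) hπz
    simp only [Over.comp_left, hπr, hφ, qI, Over.homMk_left, ← Spec.map_comp] at e
    exact congrArg CommRingCat.Hom.hom (Spec.map_injective e)
  have hgφ : gB.comp φ = φ'.hom.comp φA := by
    have e := congrArg (fun t => t.left) sqG.w
    simp only [Over.comp_left, hgB, hφ, φO, eO, Over.homMk_left, ← Spec.map_comp] at e
    exact congrArg CommRingCat.Hom.hom (Spec.map_injective e)
  have hgπ : π'.hom.comp gB = (Ideal.quotientMap I' φA Ideal.le_comap_map).comp πr := by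
    have e := congrArg (fun t => t.left) hπg
    simp only [Over.comp_left, hgB, hπr, πO, pr, Over.homMk_left, ← Spec.map_comp] at e
    exact congrArg CommRingCat.Hom.hom (Spec.map_injective e)
  have hgflat : gB.Flat := by
    have : Flat g.left :=
      MorphismProperty.of_isPullback (P := @Flat) (sqG.map (Over.forget S)).flip (inferInstanceAs (Flat eO.left))
    rw [hgB] at this
    exact (HasRingHomProperty.Spec_iff (P := @Flat)).1 this
  have hgsurj : Surjective g.left :=
    MorphismProperty.of_isPullback (P := @Surjective) (sqG.map (Over.forget S)).flip hees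
  letI : Algebra sq.A B := φ.toAlgebra
  let π : B →ₐ[sq.A] sq.A ⧸ sq.I := { πr with commutes' := fun r => RingHom.congr_fun hφπr r }
  have hπsurj : Function.Surjective π := fun x => by
    obtain ⟨r, rfl⟩ := Ideal.Quotient.mk_surjective x
    exact ⟨φ r, RingHom.congr_fun hφπr r⟩
  have hπ2 : RingHom.ker π ^ 2 = ⊥ := by
    rw [eq_bot_iff, pow_two, Ideal.mul_le]
    intro x hx y hy
    rw [Ideal.mem_bot]
    refine eq_zero_of_charts fun p => ?_
    obtain ⟨q, hq⟩ := g.left.surjective (show Spec (.of B) from p)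
    refine ⟨B', inferInstance, gB, q, hgflat, ?_, ?_⟩
    · rw [hgB] at hq; exact hq
    · have key : ∀ z ∈ RingHom.ker π, gB z ∈ RingHom.ker π'.hom := fun z hz => by
        rw [RingHom.mem_ker, ← RingHom.comp_apply, hgπ, RingHom.comp_apply, show πr z = 0 from hz, map_zero]
      have := Ideal.mul_mem_mul (key x hx) (key y hy)
      rw [← pow_two, hπ2', Ideal.mem_bot, ← map_mul] at this
      exact this
  letI : Algebra sq.A A' := φA.toAlgebra
  have : Module.Flat sq.A A' := by
    have : Flat eO.left := inferInstance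
    exact (HasRingHomProperty.Spec_iff (P := @Flat)).1 this
  have : Module.FaithfullyFlat sq.A A' := Module.FaithfullyFlat.of_comap_surjective hees.surj
  refine Exists.elim (SmoothAlg.exists_section (π := π) hI hπsurj hπ2 A' ?_) fun σ hσ => ?_
  swap
  · let σO : Over.mk sq.str ⟶ Over.mk strB := Over.homMk (Spec.map (CommRingCat.ofHom σ.toRingHom)) (by
      show Spec.map (CommRingCat.ofHom σ.toRingHom) ≫ strB = sq.str
      rw [show strB = zB.left ≫ sq.str from (Over.w zB).symm, hφ, ← Category.assoc, ← Spec.map_comp]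
      conv_rhs => rw [← Category.id_comp sq.str, ← Spec.map_id]
      congr 2
      exact CommRingCat.hom_ext (RingHom.ext fun r => σ.commutes r))
    have hσO : qI ≫ σO = πB := Over.OverMorphism.ext (by
      simp only [Over.comp_left, hπr, qI, σO, Over.homMk_left, ← Spec.map_comp]
      congr 1
      exact CommRingCat.hom_ext (RingHom.ext fun x => hσ x))
    have hσz : σO ≫ zB = 𝟙 _ := Over.OverMorphism.ext (by
      rw [Over.comp_left, hφ, Over.id_left]
      simp only [σO, Over.homMk_left, ← Spec.map_comp]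
      refine Eq.trans ?_ (Spec.map_id _)
      congr 1
      exact CommRingCat.hom_ext (RingHom.ext fun r => σ.commutes r))
    refine ⟨(yon S).map σO ≫ κB ≫ ι ≫ pullback.fst f bot, ?_, ?_⟩
    · show (yon S).map qI ≫ _ = top
      rw [← Category.assoc, ← Functor.map_comp, hσO, reassoc_of% hπBκ, reassoc_of% hsι, hs₀₁]
    · show _ = bot
      rw [show ((yon S).map σO ≫ κB ≫ ι ≫ pullback.fst f bot) ≫ f =
          (yon S).map σO ≫ (κB ≫ ι ≫ pullback.snd f bot) ≫ bot by simp only [Category.assoc, pullback.condition],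
        ← hzB, ← Category.assoc, ← Functor.map_comp, hσz, CategoryTheory.Functor.map_id]
      exact Category.id_comp bot
  intro R _ _ _ _ J J₁ hle hJ₁ εR θ hθ
  let strR : Spec (.of R) ⟶ S := Spec.map (CommRingCat.ofHom (algebraMap sq.A R)) ≫ sq.str
  let ρ : A' →+* R := algebraMap A' R
  let y : Over.mk strR ⟶ Over.mk str' := Over.homMk (Spec.map (CommRingCat.ofHom ρ)) (by
    simp only [strR, str', Over.mk_hom]
    rw [← Category.assoc, ← Spec.map_comp, IsScalarTower.algebraMap_eq sq.A A' R]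
    rfl)
  have hIJ : I' ≤ J₁.comap ρ := by
    refine Ideal.map_le_iff_le_comap.2 fun i hi => ?_
    rw [Ideal.mem_comap, Ideal.mem_comap, ← Ideal.Quotient.eq_zero_iff_mem,
      show ρ (φA i) = algebraMap sq.A R i from (IsScalarTower.algebraMap_apply sq.A A' R i).symm,
      Ideal.Quotient.mk_algebraMap, ← εR.commutes, Ideal.Quotient.algebraMap_eq,
      Ideal.Quotient.eq_zero_iff_mem.2 hi, map_zero]
  obtain ⟨ε, hε⟩ := exists_quotMap_comp (g := y) (by rfl : y.left = Spec.map (CommRingCat.ofHom ρ)) hIJ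
  let εO : quotPt strR J₁ ⟶ quotPt sq.str sq.I := Over.homMk (Spec.map (CommRingCat.ofHom εR.toRingHom)) (by
    simp only [strR, Over.mk_hom, ← Category.assoc, ← Spec.map_comp]
    congr 2
    exact CommRingCat.hom_ext (RingHom.ext fun r => εR.commutes r))
  let θO : quotPt strR J ⟶ Over.mk strB := Over.homMk (Spec.map (CommRingCat.ofHom θ.toRingHom)) (by
    simp only [strR, Over.mk_hom]
    rw [show strB = zB.left ≫ sq.str from (Over.w zB).symm, hφ, ← Category.assoc, ← Category.assoc,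
      ← Spec.map_comp, ← Spec.map_comp]
    congr 2
    exact CommRingCat.hom_ext (RingHom.ext fun r => θ.commutes r))
  have hεO : εO ≫ qI = quotMap strR J₁ ≫ y ≫ eO := Over.OverMorphism.ext (by
    simp only [Over.comp_left, εO, qI, y, eO, Over.homMk_left, ← Spec.map_comp]
    congr 1
    exact CommRingCat.hom_ext (RingHom.ext fun r => (εR.commutes r).trans
      (congrArg (Ideal.Quotient.mk J₁) (IsScalarTower.algebraMap_apply sq.A A' R r))))
  have hθz : θO ≫ zB = quotMap strR J ≫ y ≫ eO := Over.OverMorphism.ext (by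
    simp only [Over.comp_left, hφ, θO, y, eO, Over.homMk_left, ← Spec.map_comp]
    congr 1
    exact CommRingCat.hom_ext (RingHom.ext fun r => (θ.commutes r).trans
      (congrArg (Ideal.Quotient.mk J) (IsScalarTower.algebraMap_apply sq.A A' R r))))
  have hεpr : ε ≫ pr = εO := by
    rw [← cancel_mono qI, Category.assoc, sqpr.w, reassoc_of% hε, hεO]
  have hθε : quotLe strR hle ≫ θO = εO ≫ πB := Over.OverMorphism.ext (by
    simp only [Over.comp_left, hπr, θO, εO, Over.homMk_left, ← Spec.map_comp]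
    congr 1
    exact CommRingCat.hom_ext (RingHom.ext fun x => hθ x))
  have hJ : J ^ 2 = ⊥ := eq_bot_iff.2 ((Ideal.pow_right_mono hle 2).trans hJ₁.le)
  have : IsClosedImmersion (quotMap strR J).left :=
    IsClosedImmersion.spec_of_surjective _ Ideal.Quotient.mk_surjective
  have : Mono (quotMap strR J) := (Over.forget S).mono_of_mono_map (inferInstanceAs (Mono (quotMap strR J).left))
  have sqle : IsPullback (𝟙 (quotPt strR J₁)) (quotLe strR hle) (quotMap strR J₁) (quotMap strR J) :=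
    ⟨⟨by rw [Category.id_comp, quotLe_comp]⟩, ⟨PullbackCone.IsLimit.mk _ (fun c => c.fst)
      (fun c => Category.comp_id _)
      (fun c => (cancel_mono (quotMap strR J)).1 (by rw [Category.assoc, quotLe_comp, c.condition]))
      (fun c m h₁ _ => by simpa using h₁)⟩⟩
  have hFO : IsFOThickMor ((yon S).map (quotLe strR hle)) :=
    isFOThickMor_of_isPullback (sqle.map (yon S)) (IsAlgSpace.yon_obj _) (isFOThickMor_quotMap strR hJ₁)
  obtain ⟨uJ', huJ₁, huJ₂⟩ := exists_lift_thick (isFormallyEtaleMor_of_etale ha) hFO (IsAlgSpace.yon_obj _)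
    (top := (yon S).map (ε ≫ u₁)) (bot := (yon S).map θO ≫ κB ≫ ι ≫ pullback.fst f bot) (by
      rw [Functor.map_comp, Category.assoc, hu₁a, ← Category.assoc, ← Functor.map_comp, hεpr,
        ← Category.assoc, ← Functor.map_comp, hθε, Functor.map_comp, Category.assoc, reassoc_of% hπBκ,
        reassoc_of% hsι, hs₀₁])
  obtain ⟨uJ, rfl⟩ := (yon S).map_surjective uJ'
  have huJ : quotLe strR hle ≫ uJ = ε ≫ u₁ := (yon S).map_injective (by rw [Functor.map_comp]; exact huJ₁)
  have huh : uJ ≫ h = quotMap strR J ≫ y ≫ v := by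
    apply (yon S).map_injective
    refine hom_ext_thick (f := b) (top := (yon S).map (quotLe strR hle ≫ quotMap strR J ≫ y ≫ v))
      (bot := (yon S).map (quotMap strR J ≫ y ≫ v) ≫ b)
      (formallyUnramified_of_formallyEtale (isFormallyEtaleMor_of_etale hb)) hFO (IsAlgSpace.yon_obj _) ?_ ?_ ?_
      (Functor.map_comp _ _ _).symm rfl
    · rw [Functor.map_comp, Category.assoc]
    · rw [← Functor.map_comp, reassoc_of% huJ, ← hv, reassoc_of% hε, ← Category.assoc (quotLe strR hle),
        quotLe_comp]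
    · rw [Functor.map_comp, Category.assoc, ← w, reassoc_of% huJ₂, pullback.condition,
        ← Category.assoc ι, ← Category.assoc κB, ← hzB, ← Category.assoc, ← Functor.map_comp, hθz]
      simp only [Functor.map_comp, Category.assoc, hv₂]
  obtain ⟨l, hl₁, hl₂⟩ := hh R J hJ uJ.left (y ≫ v).left (congrArg (fun t => t.left) huh).symm
  let lO : Over.mk strR ⟶ U := Over.homMk l (by rw [← Over.w h, reassoc_of% hl₂, Over.w (y ≫ v)])
  have hlu : quotMap strR J ≫ lO = uJ := Over.OverMorphism.ext hl₁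
  obtain ⟨εc, hεc⟩ : ∃ εc : CommRingCat.of (A' ⧸ I') ⟶ CommRingCat.of (R ⧸ J₁), ε.left = Spec.map εc :=
    ⟨_, (Spec.map_preimage _).symm⟩
  obtain ⟨ψ, hψ₁, hψ₂⟩ := huf R J₁ hJ₁ (CommRingCat.ofHom ρ) εc (Spec.map_injective (by
      rw [Spec.map_comp, Spec.map_comp, ← hεc]
      exact congrArg (fun t => t.left) hε))
    l hl₂ (by
      rw [← hεc]
      have : quotMap strR J₁ ≫ lO = ε ≫ u₁ := by rw [← quotLe_comp strR hle, Category.assoc, hlu, huJ]
      exact congrArg (fun t => t.left) this)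
  let ψO : Over.mk strR ⟶ Z' := Over.homMk (Spec.map ψ) (by
    dsimp [Z']
    rw [← Category.assoc, ← Spec.map_comp, hψ₁]
    exact Over.w y)
  have hψφ : ψO ≫ φO = y := Over.OverMorphism.ext (by
    simp only [Over.comp_left, ψO, φO, y, Over.homMk_left, ← Spec.map_comp, hψ₁])
  have hψq : ψO ≫ qO = lO := Over.OverMorphism.ext hψ₂
  refine ⟨{ ψ.hom.comp gB with commutes' := fun r => ?_ }, fun x => ?_⟩
  · show ψ.hom (gB (φ r)) = _
    rw [← RingHom.comp_apply gB, hgφ, RingHom.comp_apply, IsScalarTower.algebraMap_apply sq.A A' R r]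
    exact ConcreteCategory.congr_hom hψ₁ (φA r)
  · have key : quotMap strR J ≫ ψO ≫ g = θO := by
      apply (yon S).map_injective
      rw [← cancel_mono κB, ← cancel_mono ι]
      simp only [Functor.map_comp, Category.assoc]
      rw [reassoc_of% hgκ, hm']
      refine pullback.hom_ext ?_ ?_
      · simp only [Category.assoc, hm₁]
        rw [← huJ₂, ← hlu, ← hψq]
        simp only [Functor.map_comp, Category.assoc]
      · simp only [Category.assoc, hm₂, ← hzB]
        rw [← (yon S).map_comp ψO, reassoc_of% hψφ]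
        exact ((yon S).map_comp _ _).symm.trans ((congrArg (yon S).map hθz.symm).trans (Functor.map_comp (yon S) θO zB))
    have e := congrArg (fun t => t.left) key
    simp only [Over.comp_left, hgB, ψO, θO, Over.homMk_left, ← Spec.map_comp] at e
    exact RingHom.congr_fun (congrArg CommRingCat.Hom.hom (Spec.map_injective e)) x

end Groth.Agent.H13Inf.SmoothChart
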