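import Groth.Agent.S10630
import Groth.Agent.S10631
import Groth.Agent.S10632
import Groth.Agent.S10633
import Groth.Agent.S9731
import Groth.Agent.H13Inf.Space
import Groth.Agent.H13Inf.Converse
import Groth.Agent.H13Inf.BaseChange
import Groth.Agent.H13AlgSp.TopInv
import Groth.Agent.H12AlgSp.QuotSheaf
import Groth.Agent.H12AlgSp.Bootstrap
import Groth.Agent.H12AlgSp.AffineMor
import Groth.Agent.H12AlgSp.SchImage
import Groth.Agent.H29Omega.UnivThickScheme

/-!
Existence of universal first order thickenings of algebraic spaces.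
-/

set_option autoImplicit false
set_option linter.style.haveILetI false
set_option backward.isDefEq.respectTransparency false

universe u

open CategoryTheory CategoryTheory.Limits AlgebraicGeometry Opposite
open AlgSp Groth.Agent.H12AlgSp

namespace Groth.Agent.H13Inf

variable {S : Scheme.{u}} {Tt T' : Sp S}

/-- A thickening of first order over a surjective etale chart of the target is of first order everywhere. -/
theorem good_of_chart {j : Tt ⟶ T'} (hj : IsThickMor j) {U : Over S} {b : (yon S).obj U ⟶ T'}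
    (hb : RepWith @Etale b) (hbs : RepWith @Surjective b) (hgood : Good j b) {W : Over S}
    (c : (yon S).obj W ⟶ T') : Good j c := by
  intro B str e _
  generalize (yon S).map e ≫ c = c'
  obtain ⟨W0, i, fst, pb⟩ := hj.1 c'
  have hi : IsClosedImmersion i.left := (hj.2 _ fst i pb).1
  obtain ⟨K, ε, hε⟩ := IsClosedImmersion.Spec_iff.1 hi
  let ε' : quotPt str K ⟶ W0 := Over.homMk ε.inv (by
    show ε.inv ≫ W0.hom = Spec.map (CommRingCat.ofHom (Ideal.Quotient.mk K)) ≫ str
    rw [← Over.w i, hε, Category.assoc, Iso.inv_hom_id_assoc]; rfl)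
  have : IsIso ((Over.forget S).map ε') := inferInstanceAs (IsIso ε.inv)
  have : IsIso ε' := isIso_of_reflects_iso ε' (Over.forget S)
  have hε' : ε' ≫ i = quotMap str K := Over.OverMorphism.ext (by
    rw [Over.comp_left, hε]
    exact Iso.inv_hom_id_assoc ε _)
  have sq : IsPullback ((yon S).map ε') ((yon S).map (quotMap str K)) ((yon S).map i) (𝟙 _) :=
    IsPullback.of_horiz_isIso ⟨by rw [← Functor.map_comp, hε', Category.comp_id]⟩
  have pbK := sq.paste_horiz pb
  rw [Category.id_comp] at pbK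
  refine ⟨K, _, ?_, pbK⟩
  rw [eq_bot_iff, pow_two, Ideal.mul_le]
  intro x hx y hy
  rw [Ideal.mem_bot]
  by_contra hne
  -- a prime containing the annihilator
  obtain ⟨p, hp, hann⟩ := Ideal.exists_le_maximal (Ideal.span {x * y}).annihilator (fun htop => hne (by
    have := Submodule.mem_annihilator.1 (htop.ge (Submodule.mem_top (x := (1 : B)))) _
      (Ideal.mem_span_singleton_self (x * y))
    simpa using this))
  obtain ⟨R, rV, rU', pbR⟩ := hb.1 c'
  obtain ⟨rU, rfl⟩ := (yon S).map_surjective rU'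
  have hVe : Etale rV.left := hb.2 _ _ _ pbR
  have hVs : Surjective rV.left := hbs.2 _ _ _ pbR
  obtain ⟨r, hr⟩ := rV.left.surjective (show Spec (.of B) from ⟨p, hp.isPrime⟩)
  obtain ⟨C₀, str₀, e₀, z₀, he₀, hz₀, -⟩ := exists_piece U (rU.left r) ⊤ trivial
  obtain ⟨C, strC, eC, q, heC, hq, hO⟩ := exists_piece R r (rU.left ⁻¹ᵁ e₀.left.opensRange) (by
    exact ⟨z₀, hz₀⟩)
  have hsub : Set.range (eC ≫ rU).left ⊆ Set.range e₀.left := by
    rintro _ ⟨w, rfl⟩; exact hO w
  let m : Over.mk strC ⟶ Over.mk str₀ := Over.homMk (IsOpenImmersion.lift e₀.left (eC ≫ rU).left hsub) (by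
    rw [← Over.w e₀, IsOpenImmersion.lift_fac_assoc, Over.w])
  have hm : m ≫ e₀ = eC ≫ rU := Over.OverMorphism.ext (IsOpenImmersion.lift_fac _ _ _)
  obtain ⟨K₀, t₀, hK₀, pb₀⟩ := hgood C₀ str₀ e₀ he₀
  obtain ⟨ψ, hψ⟩ : ∃ ψ : C₀ →+* C, m.left = Spec.map (CommRingCat.ofHom ψ) :=
    ⟨(Spec.preimage m.left).hom, (Spec.map_preimage _).symm⟩
  obtain ⟨φ, hφ⟩ : ∃ φ : B →+* C, (eC ≫ rV).left = Spec.map (CommRingCat.ofHom φ) :=
    ⟨(Spec.preimage (eC ≫ rV).left).hom, (Spec.map_preimage _).symm⟩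
  have hflat : φ.Flat := by
    have : Flat (eC ≫ rV).left := by rw [Over.comp_left]; infer_instance
    rw [hφ] at this
    exact (HasRingHomProperty.Spec_iff (P := @Flat)).1 this
  obtain rfl : strC = Spec.map (CommRingCat.ofHom ψ) ≫ str₀ :=
    (Over.w m).symm.trans (congrArg (· ≫ str₀) hψ)
  have hm' : (Over.homMk (Spec.map (CommRingCat.ofHom ψ)) rfl :
      Over.mk (Spec.map (CommRingCat.ofHom ψ) ≫ str₀) ⟶ Over.mk str₀) = m :=
    Over.OverMorphism.ext hψ.symm
  have hsq := (isPullback_quotPt ψ K₀ str₀).w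
  rw [hm'] at hsq
  have key := le_comap_of_quotMap (g := eC ≫ rV) hφ (L := K₀.map ψ) (K := K)
  obtain ⟨ζ, hζ⟩ := (yon S).map_surjective (pbK.lift ((yon S).map (Over.homMk
      (Spec.map (CommRingCat.ofHom (Ideal.quotientMap (K₀.map ψ) ψ Ideal.le_comap_map))) (by
        dsimp
        rw [← Category.assoc, ← Category.assoc, ← Spec.map_comp, ← Spec.map_comp]
        rfl) : quotPt (Spec.map (CommRingCat.ofHom ψ) ≫ str₀) (K₀.map ψ) ⟶ quotPt str₀ K₀) ≫ t₀)
      ((yon S).map (quotMap _ _ ≫ eC ≫ rV)) (by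
      rw [Category.assoc, pb₀.w]
      simp only [← Category.assoc, ← Functor.map_comp]
      rw [hsq]
      simp only [Category.assoc]
      rw [hm]
      simp only [Functor.map_comp, Category.assoc, pbR.w]))
  have hle := key ζ ((yon S).map_injective (by rw [Functor.map_comp, hζ, pbK.lift_snd]))
  have h0 : φ (x * y) = 0 := by
    have h := Ideal.mul_mem_mul (Ideal.mem_comap.1 (hle hx)) (Ideal.mem_comap.1 (hle hy))
    rw [← map_mul, ← Ideal.map_mul, ← pow_two, hK₀, Ideal.map_bot, Ideal.mem_bot] at h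
    exact h
  obtain ⟨a, ha, haq⟩ := exists_mul_eq_zero_of_flat φ hflat h0 q.asIdeal
  have hqp : (eC ≫ rV).left q = (⟨p, hp.isPrime⟩ : PrimeSpectrum B) := by
    rw [Over.comp_left]
    exact (congrArg (rV.left ·) hq).trans hr
  rw [hφ] at hqp
  have hap : a ∈ p := hann (Submodule.mem_annihilator.2 fun n hn => by
    obtain ⟨c, rfl⟩ := Ideal.mem_span_singleton'.1 hn
    rw [smul_eq_mul, mul_left_comm, ha, mul_zero])
  exact haq (show a ∈ (PrimeSpectrum.comap φ q).asIdeal from
    (congrArg PrimeSpectrum.asIdeal hqp).symm ▸ hap)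

/-- A first order thickening of schemes over `S` is a first order thickening of spaces. -/
theorem isFOThickMor_yon_map {A A' : Over S} {g : A ⟶ A'} (hg : MoreMor.IsFirstOrderThickening g.left) :
    IsFOThickMor ((yon S).map g) := by
  refine ⟨(isThickMor_yon_map_iff g).2 hg.1, fun V W b fst snd hV hb pb => ?_⟩
  obtain ⟨b, rfl⟩ := (yon S).map_surjective b
  obtain ⟨fst, rfl⟩ := (yon S).map_surjective fst
  have sq : IsPullback fst snd g b := IsPullback.of_map (yon S) ((yon S).map_injective (by simpa using pb.w)) pb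
  exact (H29Omega.fot_of_isPullback hg (isPullback_left sq).flip).2

/-- A universal thickening of schemes is one of spaces. -/
theorem isUnivFOThick_of_scheme {U V U' : Over S} (ψ : U ⟶ V) (i : U ⟶ U') (h' : U' ⟶ V)
    (H : OmegaSh.IsUnivThickening ψ.left i.left h'.left) :
    IsUnivFOThick ((yon S).map ψ) ((yon S).map i) ((yon S).map h') := by
  obtain ⟨hi, hw, hu⟩ := H
  have w : i ≫ h' = ψ := Over.OverMorphism.ext hw
  have key := (Groth.Agent.S10630.result
    (Z := (⟨(yon S).obj U, IsAlgSpace.yon_obj U⟩ : Space S)) (Z' := ⟨(yon S).obj U', IsAlgSpace.yon_obj U'⟩)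
    (X := ⟨(yon S).obj V, IsAlgSpace.yon_obj V⟩) (ObjectProperty.homMk ((yon S).map ψ))
    (ObjectProperty.homMk ((yon S).map i)) (ObjectProperty.homMk ((yon S).map h'))
    (isFOThickMor_yon_map hi) (by
      apply ObjectProperty.hom_ext
      show (yon S).map i ≫ (yon S).map h' = (yon S).map ψ
      rw [← Functor.map_comp, w])).2 fun T T' j hT' hj a b e => by
      obtain ⟨a, rfl⟩ := (yon S).map_surjective a
      obtain ⟨b, rfl⟩ := (yon S).map_surjective b
      have e' : j ≫ b = a ≫ ψ := (yon S).map_injective (by rw [Functor.map_comp, Functor.map_comp]; exact e)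
      obtain ⟨m, ⟨m1, m2⟩, mu⟩ := hu T.left T'.left j.left b.left a.left
        (isFirstOrderThickening_of_isFOThickMor_yon_map hT' hj) (congrArg (fun k => k.left) e')
      let m' : T' ⟶ U' := Over.homMk m (by rw [← Over.w h', ← Category.assoc, m2, Over.w b])
      refine ⟨(yon S).map m', ⟨?_, ?_⟩, fun n hn => ?_⟩
      · show (yon S).map j ≫ (yon S).map m' = (yon S).map a ≫ (yon S).map i
        rw [← Functor.map_comp, ← Functor.map_comp]
        exact congrArg _ (Over.OverMorphism.ext m1)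
      · show (yon S).map m' ≫ (yon S).map h' = (yon S).map b
        rw [← Functor.map_comp]
        exact congrArg _ (Over.OverMorphism.ext m2)
      · obtain ⟨n, rfl⟩ := (yon S).map_surjective n
        obtain ⟨n1, n2⟩ := hn
        change (yon S).map j ≫ (yon S).map n = (yon S).map a ≫ (yon S).map i at n1
        change (yon S).map n ≫ (yon S).map h' = (yon S).map b at n2
        rw [← Functor.map_comp, ← Functor.map_comp] at n1
        rw [← Functor.map_comp] at n2
        exact congrArg _ (Over.OverMorphism.ext (mu n.left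
          ⟨congrArg (fun k => k.left) ((yon S).map_injective n1), congrArg (fun k => k.left) ((yon S).map_injective n2)⟩))
  exact key

/-- Two maps into a universal thickening agree if they agree on the thickened space and over the base. -/
theorem univ_ext {Z Z' X : Sp S} {h : Z ⟶ X} {i : Z ⟶ Z'} {h' : Z' ⟶ X} (H : IsUnivFOThick h i h')
    {T T' : Sp S} (hT : IsAlgSpace T) (hT' : IsAlgSpace T') {j : T ⟶ T'} (hj : IsFOThickMor j) (a : T ⟶ Z)
    {m m' : T' ⟶ Z'} (hm : j ≫ m = a ≫ i) (hm' : j ≫ m' = a ≫ i) (e : m ≫ h' = m' ≫ h') : m = m' :=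
  (H.2.2 hT hT' j a (m ≫ h') hj (by rw [← Category.assoc, hm, Category.assoc, H.2.1])).unique
    ⟨hm, rfl⟩ ⟨hm', e.symm⟩

/-- Existence of universal first order thickenings. -/
theorem exists_isUnivFOThick {Z X : Space S} (h : Z ⟶ X) (hh : IsFormallyUnramifiedMor h.hom) :
    ∃ (Z' : Space S) (i : Z ⟶ Z') (h' : Z' ⟶ X), IsUnivFOThick h.hom i.hom h'.hom := by
  classical
  obtain ⟨V₀, b, hb, hbs⟩ : ∃ (V₀ : Over S) (b : (yon S).obj V₀ ⟶ X.obj),
      RepWith @Etale b ∧ RepWith @Surjective b := X.property.atlas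
  obtain ⟨P, q₁, q₂, sqP⟩ : ∃ (P : Sp S) (q₁ : P ⟶ Z.obj) (q₂ : P ⟶ (yon S).obj V₀), IsPullback q₁ q₂ h.hom b :=
    ⟨_, _, _, IsPullback.of_hasPullback _ _⟩
  obtain ⟨U, u, hu, hus⟩ := (isAlgSpace_of_isPullback X.property.diag Z.property (IsAlgSpace.yon_obj V₀) sqP).atlas
  let e : (yon S).obj U ⟶ Z.obj := u ≫ q₁
  have he : RepWith @Etale e := repWith_comp hu (repWith_of_isPullback sqP.flip hb)
  have hes : RepWith @Surjective e := repWith_comp hus (repWith_of_isPullback sqP.flip hbs)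
  obtain ⟨ψ, hψ⟩ := (yon S).map_surjective (u ≫ q₂)
  have weh : e ≫ h.hom = (yon S).map ψ ≫ b := by
    rw [hψ, Category.assoc, Category.assoc, sqP.w]
  haveI : FormallyUnramified ψ.left := locP_of_isFormallyUnramifiedMor hh e b ψ he hb weh
  obtain ⟨U'', i₀', h₀', H₀⟩ := Groth.Agent.S9731.result ψ.left
  let U' : Over S := Over.mk (h₀' ≫ V₀.hom)
  let i₀ : U ⟶ U' := Over.homMk i₀' (by
    show i₀' ≫ h₀' ≫ V₀.hom = U.hom
    rw [← Category.assoc, H₀.2.1, Over.w ψ])
  let hm : U' ⟶ V₀ := Over.homMk h₀' rfl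
  have HV : IsUnivFOThick ((yon S).map ψ) ((yon S).map i₀) ((yon S).map hm) :=
    isUnivFOThick_of_scheme ψ i₀ hm H₀
  let h₀ : (yon S).obj U' ⟶ X.obj := (yon S).map hm ≫ b
  have HU : IsUnivFOThick (e ≫ h.hom) ((yon S).map i₀) h₀ := by
    rw [weh]
    exact Groth.Agent.S10631.result
      (Z := (⟨(yon S).obj U, IsAlgSpace.yon_obj U⟩ : Space S)) (Z' := ⟨(yon S).obj U', IsAlgSpace.yon_obj U'⟩)
      (Y := ⟨(yon S).obj V₀, IsAlgSpace.yon_obj V₀⟩) (X := X) (ObjectProperty.homMk ((yon S).map ψ))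
      (ObjectProperty.homMk b) (ObjectProperty.homMk ((yon S).map i₀)) (ObjectProperty.homMk ((yon S).map hm))
      HV (isFormallyEtaleMor_of_etale hb)
  have hi₀ : MoreMor.IsFirstOrderThickening i₀.left := H₀.1
  haveI : IsClosedImmersion i₀.left := hi₀.1.1
  haveI : Surjective i₀.left := hi₀.1.2
  have hi₀mono : ∀ {A : Over S} (a a' : A ⟶ U), a ≫ i₀ = a' ≫ i₀ → a = a' := fun a a' w =>
    Over.OverMorphism.ext ((cancel_mono i₀.left).1 (congrArg (fun k => k.left) w))
  -- the relation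
  obtain ⟨R, p₀', p₁', sqR⟩ : ∃ (R : Over S) (p₀ p₁ : (yon S).obj R ⟶ (yon S).obj U),
      IsPullback p₁ p₀ e e := by
    obtain ⟨R, r, r', sq⟩ := he.1 e
    exact ⟨R, (yon S).map r, r', sq⟩
  obtain ⟨p₀, rfl⟩ := (yon S).map_surjective p₀'
  obtain ⟨p₁, rfl⟩ := (yon S).map_surjective p₁'
  haveI : Etale p₀.left := (repWith_yon_map_iff _ p₀).1 (repWith_of_isPullback sqR he)
  have hpe : (yon S).map p₁ ≫ e = (yon S).map p₀ ≫ e := sqR.w
  obtain ⟨R'', a₀', c', ha₀, sqc⟩ := H13AlgSp.TopInv.exists_scheme_lift i₀.left p₀.left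
  let R' : Over S := Over.mk (a₀' ≫ U'.hom)
  let c : R ⟶ R' := Over.homMk c' (by
    show c' ≫ a₀' ≫ U'.hom = R.hom
    rw [← Category.assoc, ← sqc.w, Category.assoc, Over.w i₀, Over.w p₀])
  let a₀ : R' ⟶ U' := Over.homMk a₀' rfl
  have sqR' : IsPullback p₀ c i₀ a₀ := IsPullback.of_map (Over.forget S) (Over.OverMorphism.ext sqc.w) sqc
  have sqR'y := sqR'.map (yon S)
  haveI : Etale a₀.left := ha₀
  let k : (yon S).obj R' ⟶ X.obj := (yon S).map a₀ ≫ h₀
  have HR : IsUnivFOThick ((yon S).map p₀ ≫ e ≫ h.hom) ((yon S).map c) k :=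
    Groth.Agent.S10632.result
      (Z := (⟨(yon S).obj R, IsAlgSpace.yon_obj R⟩ : Space S)) (Y := ⟨(yon S).obj U, IsAlgSpace.yon_obj U⟩)
      (Y' := ⟨(yon S).obj U', IsAlgSpace.yon_obj U'⟩) (Z' := ⟨(yon S).obj R', IsAlgSpace.yon_obj R'⟩) (X := X)
      (ObjectProperty.homMk ((yon S).map p₀))
      (H13AlgSp.isEtaleMor_of_locP (IsAlgSpace.yon_obj R) (IsAlgSpace.yon_obj U) (locP_of_repWith etLocal_etale
        ((repWith_yon_map_iff _ p₀).2 ‹_›)))
      (ObjectProperty.homMk (e ≫ h.hom)) (ObjectProperty.homMk ((yon S).map i₀)) (ObjectProperty.homMk h₀) HU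
      (ObjectProperty.homMk ((yon S).map c)) (ObjectProperty.homMk ((yon S).map a₀))
      (H13AlgSp.isEtaleMor_of_locP (IsAlgSpace.yon_obj R') (IsAlgSpace.yon_obj U') (locP_of_repWith etLocal_etale
        ((repWith_yon_map_iff _ a₀).2 ha₀))) sqR'y
  obtain ⟨sw, hsw₀, hsw₁⟩ := sqR.exists_lift ((yon S).map p₀) ((yon S).map p₁) hpe.symm
  obtain ⟨sw, rfl⟩ := (yon S).map_surjective sw
  have hs₀ : sw ≫ p₁ = p₀ := (yon S).map_injective (by rw [Functor.map_comp]; exact hsw₀)
  have hs₁ : sw ≫ p₀ = p₁ := (yon S).map_injective (by rw [Functor.map_comp]; exact hsw₁)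
  have rext : ∀ {A : Over S} (r r' : A ⟶ R), r ≫ p₀ = r' ≫ p₀ → r ≫ p₁ = r' ≫ p₁ → r = r' :=
    fun r r' w₀ w₁ => (yon S).map_injective (sqR.hom_ext (by rw [← Functor.map_comp, ← Functor.map_comp, w₁])
      (by rw [← Functor.map_comp, ← Functor.map_comp, w₀]))
  have hc0 : c ≫ a₀ = p₀ ≫ i₀ := sqR'.w.symm
  obtain ⟨σ', ⟨hσ1, hσ2⟩, -⟩ := HR.2.2 (IsAlgSpace.yon_obj R) (IsAlgSpace.yon_obj R') ((yon S).map c)
    ((yon S).map sw) k HR.1 (by
      rw [HR.2.1, ← Category.assoc ((yon S).map sw), ← Functor.map_comp, hs₁]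
      simpa only [Category.assoc] using (congrArg (· ≫ h.hom) hpe).symm)
  obtain ⟨σ, rfl⟩ := (yon S).map_surjective σ'
  have hσc : c ≫ σ = sw ≫ c := (yon S).map_injective (by rw [Functor.map_comp, Functor.map_comp]; exact hσ1)
  have hsw2 : sw ≫ sw = 𝟙 R := rext _ _ (by rw [Category.assoc, hs₁, hs₀, Category.id_comp])
    (by rw [Category.assoc, hs₀, hs₁, Category.id_comp])
  have hσσ : σ ≫ σ = 𝟙 R' := (yon S).map_injective (univ_ext HR (IsAlgSpace.yon_obj R) (IsAlgSpace.yon_obj R') HR.1 (𝟙 _)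
    (by rw [← Functor.map_comp, ← Category.assoc, hσc, Category.assoc, hσc, ← Category.assoc, hsw2,
      Category.id_comp, Category.id_comp])
    (by simp) (by simp only [Functor.map_comp, Category.assoc, hσ2, CategoryTheory.Functor.map_id, Category.id_comp]))
  haveI : IsIso σ := ⟨⟨σ, hσσ, hσσ⟩⟩
  haveI : IsIso σ.left := inferInstanceAs (IsIso ((Over.forget S).map σ))
  obtain ⟨a₁, hadef⟩ : ∃ a₁ : R' ⟶ U', a₁ = σ ≫ a₀ := ⟨_, rfl⟩
  haveI : Etale a₁.left := by rw [hadef]; exact inferInstanceAs (Etale (σ.left ≫ a₀.left))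
  have hc1 : c ≫ a₁ = p₁ ≫ i₀ := by
    rw [hadef, ← Category.assoc, hσc, Category.assoc, hc0, ← Category.assoc, hs₁]
  have hσa₁ : σ ≫ a₁ = a₀ := by rw [hadef, ← Category.assoc, hσσ, Category.id_comp]
  have hk₁ : (yon S).map a₁ ≫ h₀ = k := by rw [hadef, Functor.map_comp, Category.assoc]; exact hσ2
  -- points of the relation over a thickened test scheme
  have thick₀ : ∀ {T : Over S} (m : T ⟶ U'), ∃ (T₀ : Over S) (q : T₀ ⟶ T) (r : T₀ ⟶ U),
      IsFOThickMor ((yon S).map q) ∧ r ≫ i₀ = q ≫ m := fun {T} m => by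
    let T₀ : Over S := Over.mk (pullback.snd i₀.left m.left ≫ T.hom)
    refine ⟨T₀, Over.homMk (pullback.snd i₀.left m.left) rfl, Over.homMk (pullback.fst i₀.left m.left) (by
        show _ ≫ U.hom = _ ≫ T.hom
        rw [← Over.w i₀, ← Category.assoc, pullback.condition, Category.assoc, Over.w m]), ?_,
      Over.OverMorphism.ext pullback.condition⟩
    exact isFOThickMor_yon_map (H29Omega.fot_of_isPullback hi₀
      (IsPullback.of_hasPullback i₀.left m.left).flip)
  have hinj : ∀ (T : Over S) (r r' : T ⟶ R'), r ≫ a₁ = r' ≫ a₁ → r ≫ a₀ = r' ≫ a₀ → r = r' := by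
    intro T r r' w₁ w₀
    obtain ⟨T₀, q, x, hq, hx⟩ := thick₀ (r ≫ a₀)
    obtain ⟨y, hy₁, hy₂⟩ := sqR'.exists_lift x (q ≫ r) (by rw [hx, Category.assoc])
    obtain ⟨y', hy'₁, hy'₂⟩ := sqR'.exists_lift x (q ≫ r') (by rw [hx, Category.assoc, w₀])
    have hyy : y = y' := rext _ _ (hy₁.trans hy'₁.symm) (hi₀mono _ _ (by
      rw [Category.assoc, Category.assoc, ← hc1, ← Category.assoc, ← Category.assoc, hy₂, hy'₂,
        Category.assoc, Category.assoc, w₁]))
    refine (yon S).map_injective (univ_ext HR (IsAlgSpace.yon_obj T₀) (IsAlgSpace.yon_obj T) hq ((yon S).map y) ?_ ?_ ?_)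
    · rw [← Functor.map_comp, ← Functor.map_comp, hy₂]
    · rw [← Functor.map_comp, ← Functor.map_comp, hyy, hy'₂]
    · show (yon S).map r ≫ (yon S).map a₀ ≫ h₀ = (yon S).map r' ≫ (yon S).map a₀ ≫ h₀
      rw [← Category.assoc ((yon S).map r), ← Functor.map_comp, w₀, Functor.map_comp, Category.assoc]
  obtain ⟨dg, hdg₁, hdg₀⟩ := sqR.exists_lift (𝟙 ((yon S).obj U)) (𝟙 _) rfl
  obtain ⟨dg, rfl⟩ := (yon S).map_surjective dg
  have hd₀ : dg ≫ p₀ = 𝟙 U := (yon S).map_injective (by rw [Functor.map_comp, CategoryTheory.Functor.map_id]; exact hdg₀)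
  have hd₁ : dg ≫ p₁ = 𝟙 U := (yon S).map_injective (by rw [Functor.map_comp, CategoryTheory.Functor.map_id]; exact hdg₁)
  obtain ⟨δ', ⟨hδ1, hδ2⟩, -⟩ := HR.2.2 (IsAlgSpace.yon_obj U) (IsAlgSpace.yon_obj U') ((yon S).map i₀)
    ((yon S).map dg) h₀ HU.1 (by
      rw [HU.2.1, ← Category.assoc ((yon S).map dg), ← Functor.map_comp, hd₀, CategoryTheory.Functor.map_id, Category.id_comp])
  obtain ⟨δ, rfl⟩ := (yon S).map_surjective δ'
  have hδc : i₀ ≫ δ = dg ≫ c := (yon S).map_injective (by rw [Functor.map_comp, Functor.map_comp]; exact hδ1)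
  have hδ₀ : δ ≫ a₀ = 𝟙 U' := (yon S).map_injective (univ_ext HU (IsAlgSpace.yon_obj U) (IsAlgSpace.yon_obj U') HU.1 (𝟙 _)
    (by rw [← Functor.map_comp, ← Category.assoc, hδc, Category.assoc, hc0, ← Category.assoc, hd₀, Category.id_comp,
      Category.id_comp])
    (by simp) (by rw [Functor.map_comp, Category.assoc, CategoryTheory.Functor.map_id, Category.id_comp]; exact hδ2))
  have hδ₁ : δ ≫ a₁ = 𝟙 U' := (yon S).map_injective (univ_ext HU (IsAlgSpace.yon_obj U) (IsAlgSpace.yon_obj U') HU.1 (𝟙 _)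
    (by rw [← Functor.map_comp, ← Category.assoc, hδc, Category.assoc, hc1, ← Category.assoc, hd₁, Category.id_comp,
      Category.id_comp])
    (by simp) (by rw [Functor.map_comp, Category.assoc, hk₁, CategoryTheory.Functor.map_id, Category.id_comp]; exact hδ2))
  have htrans : ∀ (T : Over S) (r s : T ⟶ R'), r ≫ a₀ = s ≫ a₁ →
      ∃ t : T ⟶ R', t ≫ a₁ = r ≫ a₁ ∧ t ≫ a₀ = s ≫ a₀ := by
    intro T r s w
    obtain ⟨T₀, q, x, hq, hx⟩ := thick₀ (s ≫ a₀)
    obtain ⟨y, hy₁, hy₂⟩ := sqR'.exists_lift x (q ≫ s) (by rw [hx, Category.assoc])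
    obtain ⟨z, hz₁, hz₂⟩ := sqR'.exists_lift (y ≫ p₁) (q ≫ r) (by
      rw [Category.assoc, ← hc1, ← Category.assoc, hy₂, Category.assoc, Category.assoc, w])
    obtain ⟨v, hv₁, hv₀⟩ := sqR.exists_lift ((yon S).map (z ≫ p₁)) ((yon S).map (y ≫ p₀)) (by
      rw [Functor.map_comp, Category.assoc, hpe, ← Category.assoc, ← Functor.map_comp, hz₁, Functor.map_comp,
        Category.assoc, hpe, ← Category.assoc, ← Functor.map_comp])
    obtain ⟨v, rfl⟩ := (yon S).map_surjective v
    have hv₁' : v ≫ p₁ = z ≫ p₁ := (yon S).map_injective (by rw [Functor.map_comp]; exact hv₁)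
    have hv₀' : v ≫ p₀ = y ≫ p₀ := (yon S).map_injective (by rw [Functor.map_comp]; exact hv₀)
    obtain ⟨t', ⟨ht1, ht2⟩, -⟩ := HR.2.2 (IsAlgSpace.yon_obj T₀) (IsAlgSpace.yon_obj T) ((yon S).map q)
      ((yon S).map v) ((yon S).map s ≫ k) hq (by
        show (yon S).map q ≫ (yon S).map s ≫ (yon S).map a₀ ≫ h₀ = (yon S).map v ≫ (yon S).map p₀ ≫ e ≫ h.hom
        rw [← Category.assoc ((yon S).map v), ← Functor.map_comp, hv₀', hy₁, ← HU.2.1,
          ← Category.assoc ((yon S).map x), ← Functor.map_comp, hx]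
        simp only [Functor.map_comp, Category.assoc])
    obtain ⟨t, rfl⟩ := (yon S).map_surjective t'
    have htc : q ≫ t = v ≫ c := (yon S).map_injective (by rw [Functor.map_comp, Functor.map_comp]; exact ht1)
    refine ⟨t, ?_, ?_⟩
    · refine (yon S).map_injective (univ_ext HU (IsAlgSpace.yon_obj T₀) (IsAlgSpace.yon_obj T) hq ((yon S).map (v ≫ p₁)) ?_ ?_ ?_)
      · rw [← Functor.map_comp, ← Functor.map_comp, ← Category.assoc, htc, Category.assoc, hc1, Category.assoc]
      · rw [← Functor.map_comp, ← Functor.map_comp, ← Category.assoc, ← hz₂, Category.assoc, hc1, ← Category.assoc, ← hv₁']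
      · rw [Functor.map_comp, Functor.map_comp, Category.assoc, Category.assoc, hk₁, ht2]
        show (yon S).map s ≫ (yon S).map a₀ ≫ h₀ = _
        have : (yon S).map r ≫ (yon S).map a₀ ≫ h₀ = (yon S).map s ≫ (yon S).map a₁ ≫ h₀ := by
          rw [← Category.assoc ((yon S).map r), ← Functor.map_comp, w, Functor.map_comp, Category.assoc]
        rw [hk₁] at this
        exact this.symm
    · refine (yon S).map_injective (univ_ext HU (IsAlgSpace.yon_obj T₀) (IsAlgSpace.yon_obj T) hq ((yon S).map (v ≫ p₀)) ?_ ?_ ?_)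
      · rw [← Functor.map_comp, ← Functor.map_comp, ← Category.assoc, htc, Category.assoc, hc0, Category.assoc]
      · rw [← Functor.map_comp, ← Functor.map_comp, ← Category.assoc, ← hy₂, Category.assoc, hc0, ← Category.assoc, ← hv₀']
      · rw [Functor.map_comp, Functor.map_comp, Category.assoc, Category.assoc, ht2]
  have heq : IsEqvRel a₀ a₁ := by
    refine ⟨hinj, fun T => ⟨fun a => ⟨a ≫ δ, by rw [Category.assoc, hδ₁, Category.comp_id],
      by rw [Category.assoc, hδ₀, Category.comp_id]⟩, ?_, ?_⟩⟩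
    · rintro a b ⟨r, h1, h2⟩
      exact ⟨r ≫ σ, by rw [Category.assoc, hσa₁, h2], by rw [Category.assoc, ← hadef]; exact h1⟩
    · rintro a b d ⟨r, h1, h2⟩ ⟨s, h3, h4⟩
      obtain ⟨t, ht1, ht2⟩ := htrans T r s (h2.trans h3.symm)
      exact ⟨t, ht1.trans h1, ht2.trans h4⟩
  -- the quotient
  obtain ⟨Q, p, hp, sqQ⟩ := exists_quotient_sheaf heq
  haveI := hp
  obtain ⟨hQ, hpet, hps⟩ := isAlgSpace_of_epi_etale sqQ
  haveI : Epi e := epi_of_etale_surjective he hes
  have : IsRegularEpi e := IsRegularEpiCategory.regularEpiOfEpi e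
  let hcolR := IsKernelPair.toCoequalizer' sqR
  obtain ⟨i, hi⟩ : ∃ i : Z.obj ⟶ Q, e ≫ i = (yon S).map i₀ ≫ p := by
    refine ⟨Cofork.IsColimit.desc hcolR ((yon S).map i₀ ≫ p) ?_, Cofork.IsColimit.π_desc hcolR⟩
    rw [← Category.assoc, ← Category.assoc, ← Functor.map_comp, ← Functor.map_comp, ← hc0, ← hc1,
      Functor.map_comp, Functor.map_comp, Category.assoc, Category.assoc, sqQ.w]
  have : IsRegularEpi p := IsRegularEpiCategory.regularEpiOfEpi p
  let hcolQ := IsKernelPair.toCoequalizer' sqQ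
  obtain ⟨h', hh'⟩ : ∃ h' : Q ⟶ X.obj, p ≫ h' = h₀ :=
    ⟨Cofork.IsColimit.desc hcolQ h₀ hk₁, Cofork.IsColimit.π_desc hcolQ⟩
  have hihh : i ≫ h' = h.hom := by
    rw [← cancel_epi e, ← Category.assoc, hi, Category.assoc, hh', HU.2.1]
  have sqi : IsPullback e ((yon S).map i₀) i p := by
    let g : (yon S).obj U ⟶ pullback i p := pullback.lift e ((yon S).map i₀) hi
    haveI : Mono g := mono_of_yon fun T a b w => by
      obtain ⟨a, rfl⟩ := (yon S).map_surjective a
      obtain ⟨b, rfl⟩ := (yon S).map_surjective b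
      have w₂ := w =≫ pullback.snd i p
      simp only [g, Category.assoc, pullback.lift_snd, ← Functor.map_comp] at w₂
      exact congrArg _ (hi₀mono a b ((yon S).map_injective w₂))
    haveI : IsIso g := H13AlgSp.isIso_of_mono_of_local_lifts g fun T y => by
      obtain ⟨m, hm⟩ := (yon S).map_surjective (y ≫ pullback.snd i p)
      obtain ⟨κ, C, d, hd1, hd2, hd3, hl⟩ := exists_local_lifts' e (y ≫ pullback.fst i p)
      refine ⟨κ, C, d, H13AlgSp.ofArrows_mem_J d hd1 hd2 hd3, fun j => ?_⟩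
      obtain ⟨l, hl⟩ := hl j
      obtain ⟨l, rfl⟩ := (yon S).map_surjective l
      obtain ⟨r, hr₁, hr₀⟩ := sqQ.exists_lift ((yon S).map (d j ≫ m)) ((yon S).map (l ≫ i₀)) (by
        rw [Functor.map_comp, Functor.map_comp, Category.assoc, Category.assoc, hm, Category.assoc,
          ← pullback.condition, ← hi, reassoc_of% hl])
      obtain ⟨r, rfl⟩ := (yon S).map_surjective r
      have hr₀' : r ≫ a₀ = l ≫ i₀ := (yon S).map_injective (by rw [Functor.map_comp]; exact hr₀)
      have hr₁' : r ≫ a₁ = d j ≫ m := (yon S).map_injective (by rw [Functor.map_comp]; exact hr₁)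
      obtain ⟨z, hz₁, hz₂⟩ := sqR'.exists_lift l r hr₀'.symm
      refine ⟨(yon S).map (z ≫ p₁), ?_⟩
      apply pullback.hom_ext
      · simp only [g, Category.assoc, pullback.lift_fst]
        rw [Functor.map_comp, Category.assoc, hpe, ← Category.assoc, ← Functor.map_comp, hz₁, hl]
      · simp only [g, Category.assoc, pullback.lift_snd]
        rw [← Functor.map_comp, Category.assoc, ← hc1, ← Category.assoc, hz₂, hr₁', Functor.map_comp, hm]
    exact IsPullback.of_iso_pullback ⟨hi⟩ (asIso g) (pullback.lift_fst _ _ _) (pullback.lift_snd _ _ _)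
  -- the quotient is a first order thickening
  have hthick : IsThickMor i := by
    haveI : MorphismProperty.DescendsAlong (@Surjective : MorphismProperty Scheme.{u})
        Groth.Agent.H18Descent.fpqc.{u} := ⟨fun {_ _ _ _ fst snd f g} h hf hfst => ⟨fun z => by
      obtain ⟨⟨hs, -⟩, -⟩ := hf
      have : Surjective fst := hfst
      have : Surjective f := hs
      obtain ⟨a, ha⟩ := (fst ≫ f).surjective z
      exact ⟨snd a, by rw [← Scheme.Hom.comp_apply, ← h.w, ha]⟩⟩⟩
    exact repWith_of_etale_cover (P := @IsClosedImmersion ⊓ @Surjective)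
      (fun _ _ f h => have : IsClosedImmersion f := h.1; inferInstance)
      Z.property hQ hpet hps sqi ((repWith_yon_map_iff _ i₀).2 hi₀.1)
  have hgood : Good i p := by
    intro B str d hd
    obtain ⟨K, t, hK, sq⟩ := good_of_etale HU.1 (repWith_id _ U') B str d hd
    refine ⟨K, t ≫ e, hK, ?_⟩
    have := sq.paste_horiz sqi
    rwa [Category.assoc, Category.id_comp] at this
  have hFO : IsFOThickMor i := isFOThickMor_of_good hthick fun W w _ => good_of_chart hthick hpet hps hgood w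
  exact ⟨⟨Q, hQ⟩, ObjectProperty.homMk i, ObjectProperty.homMk h', H13Inf.Descend.isUnivFOThick
    (IsAlgSpace.yon_obj U) Z.property (IsAlgSpace.yon_obj U') hQ
    (H13AlgSp.isEtaleMor_of_locP (IsAlgSpace.yon_obj U) Z.property (locP_of_repWith etLocal_etale he))
    (surjective_map_of_repWith le_rfl hes) HU.1 hFO
    (H13AlgSp.isEtaleMor_of_locP (IsAlgSpace.yon_obj U') hQ (locP_of_repWith etLocal_etale hpet))
    hi.symm (show IsUnivFOThick _ _ (p ≫ h') by rw [hh']; exact HU) hihh⟩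

end Groth.Agent.H13Inf
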