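import Groth.Agent.H13Inf.BaseChange

/-!
The structure map of a universal first order thickening is formally unramified.
-/

universe u

open CategoryTheory CategoryTheory.Limits AlgebraicGeometry Opposite
open AlgSp

namespace Groth.Agent.H13Inf

variable {S : Scheme.{u}} {Z Z' X : Sp S} {h : Z ⟶ X} {i : Z ⟶ Z'} {h' : Z' ⟶ X}

theorem eq_of_isUnivFOThick (HU : IsUnivFOThick h i h') {B : Type u} [CommRing B]
    {str : Spec (.of B) ⟶ S} {J : Ideal B} (hJ : J ^ 2 = ⊥) (a : (yon S).obj (quotPt str J) ⟶ Z)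
    {l l' : (yon S).obj (Over.mk str) ⟶ Z'} (h1 : (yon S).map (quotMap str J) ≫ l = a ≫ i)
    (h1' : (yon S).map (quotMap str J) ≫ l' = a ≫ i) (h2 : l ≫ h' = l' ≫ h') : l = l' :=
  (HU.2.2 (IsAlgSpace.yon_obj _) (IsAlgSpace.yon_obj _) _ a (l ≫ h') (isFOThickMor_quotMap str hJ)
    (by rw [← Category.assoc, h1, Category.assoc, HU.2.1])).unique ⟨h1, rfl⟩ ⟨h1', h2.symm⟩

theorem isFormallyUnramifiedMor_of_isUnivFOThick (hZ' : IsAlgSpace Z') (HU : IsUnivFOThick h i h') :
    IsFormallyUnramifiedMor h' := by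
  intro sq l l' hl1 hl2 hl1' hl2'
  obtain ⟨K, t, hK, pb⟩ := good_of_isFOThick HU.1 hZ' l (CommRingCat.of sq.A) sq.str (𝟙 _)
    (inferInstanceAs (IsOpenImmersion (𝟙 (Spec (.of sq.A)))))
  rw [CategoryTheory.Functor.map_id, Category.id_comp] at pb
  have hI2 : sq.I * sq.I = ⊥ := by rw [← pow_two]; exact sq.sq_zero
  have hK2 : K * K = ⊥ := by rw [← pow_two]; exact hK
  have hlt : (yon S).map (quotMap sq.str sq.I) ≫ l = sq.top := hl1
  have hlt' : (yon S).map (quotMap sq.str sq.I) ≫ l' = sq.top := hl1'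
  let I' : Ideal sq.A := sq.I * (sq.I ⊔ K)
  let φ : sq.A →+* sq.A ⧸ I' := Ideal.Quotient.mk I'
  let str' : Spec (.of (sq.A ⧸ I')) ⟶ S := Spec.map (CommRingCat.ofHom φ) ≫ sq.str
  have hII' : I' ≤ sq.I := Ideal.mul_le_left
  -- agreement modulo `I'`
  have e1 : (yon S).map (quotMap sq.str I') ≫ l = (yon S).map (quotMap sq.str I') ≫ l' := by
    let pr : quotPt str' ((sq.I ⊔ K).map φ) ⟶ quotPt sq.str (sq.I ⊔ K) :=
      Over.homMk (Spec.map (CommRingCat.ofHom (Ideal.quotientMap _ φ Ideal.le_comap_map))) (by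
        dsimp [str']
        rw [← Category.assoc, ← Category.assoc, ← Spec.map_comp, ← Spec.map_comp]
        rfl)
    have hpr : quotMap str' ((sq.I ⊔ K).map φ) ≫ quotMap sq.str I' = pr ≫ quotMap sq.str (sq.I ⊔ K) :=
      ((isPullback_quotPt φ (sq.I ⊔ K) sq.str).w).symm
    have hJ : ((sq.I ⊔ K).map φ) ^ 2 = ⊥ := by
      rw [← Ideal.map_pow, eq_bot_iff, ← Ideal.map_quotient_self I']
      refine Ideal.map_mono ?_
      rw [pow_two, Ideal.sup_mul, Ideal.mul_sup K, hK2, sup_bot_eq, Ideal.mul_comm K sq.I]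
      exact sup_le le_rfl (Ideal.mul_mono_right le_sup_right)
    have hI : quotLe sq.str (le_sup_left (b := K)) ≫ quotMap sq.str sq.I =
        quotMap sq.str (sq.I ⊔ K) := quotLe_comp _ _
    have hKq : quotLe sq.str (le_sup_right (a := sq.I)) ≫ quotMap sq.str K =
        quotMap sq.str (sq.I ⊔ K) := quotLe_comp _ _
    have hag : (yon S).map (quotMap sq.str (sq.I ⊔ K)) ≫ l' =
        (yon S).map (quotMap sq.str (sq.I ⊔ K)) ≫ l := by
      rw [← hI, Functor.map_comp, Category.assoc, Category.assoc, hlt, hlt']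
    refine eq_of_isUnivFOThick HU (str := str') hJ
      ((yon S).map (pr ≫ quotLe sq.str le_sup_right) ≫ t) ?_ ?_
      (by rw [Category.assoc, Category.assoc, hl2, hl2'])
    · rw [← Category.assoc, ← Functor.map_comp, hpr, ← hKq, ← Category.assoc pr, Functor.map_comp,
        Category.assoc, Category.assoc, pb.w]
    · rw [← Category.assoc, ← Functor.map_comp, hpr, Functor.map_comp, Category.assoc, hag, ← hKq,
        ← Category.assoc, ← Functor.map_comp, ← Category.assoc pr, Functor.map_comp, Category.assoc,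
        Category.assoc, pb.w]
  -- agreement
  have hJ2 : (I' ⊔ K) ^ 2 = ⊥ := by
    rw [eq_bot_iff, pow_two, Ideal.sup_mul, Ideal.mul_sup, Ideal.mul_sup, hK2, sup_bot_eq]
    have h1 : I' * I' ≤ ⊥ := (Ideal.mul_mono hII' hII').trans hI2.le
    have h2 : I' * K ≤ ⊥ := by
      simp only [I', Ideal.mul_sup, hI2, bot_sup_eq, mul_assoc, hK2, Ideal.mul_bot, le_refl]
    exact sup_le (sup_le h1 h2) (Ideal.mul_comm I' K ▸ h2)
  have hag : (yon S).map (quotMap sq.str (I' ⊔ K)) ≫ l' =
      (yon S).map (quotMap sq.str (I' ⊔ K)) ≫ l := by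
    rw [← quotLe_comp sq.str (le_sup_left (b := K)), Functor.map_comp, Category.assoc, Category.assoc, e1]
  refine eq_of_isUnivFOThick HU hJ2 ((yon S).map (quotLe sq.str le_sup_right) ≫ t) ?_ ?_
    (hl2.trans hl2'.symm)
  · rw [← quotLe_comp sq.str (le_sup_right (a := I')), Functor.map_comp, Category.assoc, Category.assoc, pb.w]
  · rw [hag, ← quotLe_comp sq.str (le_sup_right (a := I')), Functor.map_comp, Category.assoc,
      Category.assoc, pb.w]

end Groth.Agent.H13Inf
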